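import Cfsg.Agent.Walter.FieldThree.OddModule.Hyperplanes

/-!
# The element `φ` is outside the derived group
-/

set_option autoImplicit false
set_option linter.style.haveILetI false
set_option linter.unusedSectionVars false

open Subgroup

namespace CfsgLib.Walter.FieldThree

/-- The determinant of an action on a small elementary abelian group kills the derived group. -/
theorem notMem_commutator_of_action {Z M : Type*} [Group Z] [CommGroup M] [Finite M] {ℓ s : ℕ}
    [Fact ℓ.Prime] [Module (ZMod ℓ) (Additive M)] (hnt : Nontrivial M) (hcard : Nat.card M ≤ ℓ ^ 2)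
    (σ : Z →* MulAut M) {g : Z} (hg : ∀ a, σ g a = a ^ s)
    (hs : ∃ k : ℕ, (s : ZMod ℓ) ^ (3 ^ k) = 1) (hs1 : (s : ZMod ℓ) ≠ 1) :
    g ∉ commutator Z := by
  intro hmem
  haveI : Module.Finite (ZMod ℓ) (Additive M) := Module.Finite.of_finite
  let T : Z →* Module.End (ZMod ℓ) (Additive M) :=
    { toFun := fun y => (MonoidHom.toAdditive (σ y).toMonoidHom).toZModLinearMap ℓ
      map_one' := LinearMap.ext fun a => by
        show Additive.ofMul (σ 1 a.toMul) = a
        rw [map_one]; rfl
      map_mul' := fun y z => LinearMap.ext fun a => by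
        show Additive.ofMul (σ (y * z) a.toMul) = Additive.ofMul (σ y (σ z a.toMul))
        rw [map_mul]; rfl }
  let μ : Z →* (ZMod ℓ)ˣ := ((LinearMap.det).comp T).toHomUnits
  have h1 : μ g = 1 := MonoidHom.mem_ker.1 (Abelianization.commutator_subset_ker μ hmem)
  have hT : T g = (s : ZMod ℓ) • (1 : Module.End (ZMod ℓ) (Additive M)) := by
    refine LinearMap.ext fun a => ?_
    rw [LinearMap.smul_apply, Module.End.one_apply, Nat.cast_smul_eq_nsmul]
    show Additive.ofMul (σ g a.toMul) = Additive.ofMul (a.toMul ^ s)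
    rw [hg]
  have h2 : (s : ZMod ℓ) ^ Module.finrank (ZMod ℓ) (Additive M) = 1 := by
    have h := congrArg Units.val h1
    simp only [μ, MonoidHom.coe_toHomUnits, MonoidHom.comp_apply, Units.val_one, hT] at h
    rwa [LinearMap.det_smul, map_one, mul_one] at h
  have hc : Nat.card (Additive M) = ℓ ^ Module.finrank (ZMod ℓ) (Additive M) := by
    rw [Module.natCard_eq_pow_finrank (K := ZMod ℓ), Nat.card_zmod]
  have hcN : Nat.card (Additive M) = Nat.card M := Nat.card_congr Additive.toMul
  set n := Module.finrank (ZMod ℓ) (Additive M) with hn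
  have hn2 : n ≤ 2 := by
    rw [← hcN, hc] at hcard
    exact (Nat.pow_le_pow_iff_right (Fact.out : ℓ.Prime).one_lt).1 hcard
  have hn0 : n ≠ 0 := by
    intro e
    have h := Finite.one_lt_card (α := M)
    rw [← hcN, hc, e, pow_zero] at h
    exact lt_irrefl _ h
  obtain ⟨k, hk⟩ := hs
  have h5 : (3 ^ k).Coprime n := Nat.Coprime.pow_left k
    ((Nat.Prime.coprime_iff_not_dvd Nat.prime_three).2 fun e => by
      have := Nat.le_of_dvd (Nat.pos_of_ne_zero hn0) e; omega)
  exact hs1 (orderOf_eq_one_iff.1 (Nat.eq_one_of_dvd_coprimes h5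
    (orderOf_dvd_of_pow_eq_one hk) (orderOf_dvd_of_pow_eq_one h2)))

variable {Y : Type*} [Group Y] [Finite Y] {V O : Subgroup Y} {t x φ : Y} {ℓ f s : ℕ}

/-- **The module theorem.** -/
theorem ModSetting.notMem_commutator (h : ModSetting V O t x φ ℓ f s) : φ ∉ commutator Y := by
  haveI := h.vNormal
  haveI := Fact.mk h.prime
  set π := QuotientGroup.mk' V with hπ
  obtain ⟨A, hA, hAO, hx, hAV, htA, hφA, hAn⟩ := h.exists_xClosure
  obtain ⟨hcard, hsc⟩ := h.scalar_of_xClosure hA hAO hx hAV htA hφA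
  haveI := hAn
  haveI := hA.1
  set N := A.map π with hN
  have hNc : ∀ a b : N, a * b = b * a := by
    rintro ⟨_, a, ha, rfl⟩ ⟨_, b, hb, rfl⟩
    refine Subtype.ext ?_
    show π a * π b = π b * π a
    rw [← map_mul, ← map_mul]
    exact congrArg π (congrArg Subtype.val (hA.1.is_comm.comm ⟨a, ha⟩ ⟨b, hb⟩))
  letI : CommGroup N := { (inferInstance : Group N) with mul_comm := hNc }
  have hNp : ∀ a : N, a ^ ℓ = 1 := by
    rintro ⟨_, a, ha, rfl⟩
    refine Subtype.ext ?_
    show (π a) ^ ℓ = 1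
    rw [← map_pow, hA.2 a ha, map_one]
  letI : Module (ZMod ℓ) (Additive N) := AddCommGroup.zmodModule fun a : Additive N =>
    congrArg Additive.ofMul (hNp a.toMul)
  intro hmem
  refine notMem_commutator_of_action (M := N) (g := π φ) ?_ ?_ (MulAut.conjNormal (H := N)) ?_
    h.s_pow h.s_ne ?_
  · refine (nontrivial_iff_ne_bot N).2 fun e => ?_
    have hV : x ∈ V := (QuotientGroup.eq_one_iff x).1 ((eq_bot_iff_forall _).1 e _ ⟨x, hx, rfl⟩)
    exact h.x_ne_one ((eq_bot_iff_forall _).1 hAV x ⟨hx, hV⟩)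
  · exact (Nat.le_of_dvd Nat.card_pos (card_map_dvd A π)).trans hcard
  · rintro ⟨_, a, ha, rfl⟩
    refine Subtype.ext ?_
    rw [MulAut.conjNormal_apply]
    show π φ * π a * (π φ)⁻¹ = (π a) ^ s
    rw [← map_inv, ← map_mul, ← map_mul, ← map_pow, hsc a ha]
  · exact (map_commutator (⊤ : Subgroup Y) ⊤ π ▸ commutator_mono le_top le_top :
      (commutator Y).map π ≤ commutator (Y ⧸ V)) ⟨φ, hmem, rfl⟩

end CfsgLib.Walter.FieldThree
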