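import Cfsg.Agent.Walter.FieldThree.Cyclic
import Cfsg.Agent.Solvable.Fitting
import Cfsg.Agent.Solvable.Hall
import Cfsg.Agent.S3765
import Cfsg.Agent.S0205

/-!
# An odd solvable group on a 3-module with an involution: setting, lifting, the `ℓ`-core
-/

set_option autoImplicit false
set_option linter.style.haveILetI false
set_option linter.unusedSectionVars false

open Subgroup

namespace CfsgLib.Walter.FieldThree

/-- `O` is odd and normal, `O/V` is faithful on the elementary abelian 3-group `V` with trivial 3-core,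
`x` of order `ℓ` is fixed point free, `t` is an involution with small fixed group, `φ` induces a power
of 3-power order on `zpowers x`. -/
structure ModSetting {Y : Type*} [Group Y] (V O : Subgroup Y) (t x φ : Y) (ℓ f s : ℕ) : Prop where
  prime : ℓ.Prime
  ne_three : ℓ ≠ 3
  ord : orderOf (3 : ZMod ℓ) = f
  odd_f : Odd f
  vNormal : V.Normal
  oNormal : O.Normal
  vComm : IsMulCommutative V
  vPow : ∀ v ∈ V, v ^ 3 = 1
  v_le : V ≤ O
  oddO : Odd (Nat.card O)
  t_notMem : t ∉ O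
  t_sq : t * t = 1
  ker : O ⊓ centralizer (V : Set Y) ≤ V
  core : ∀ N : Subgroup Y, N.Normal → IsPGroup 3 N → N ≤ O → N ≤ V
  x_mem : x ∈ O
  x_ord : orderOf x = ℓ
  t_x : Commute t x
  fix_x : fixed V (zpowers x) = ⊥
  fix_t : Nat.card (fixed V (zpowers t)) ∣ 3 ^ f
  norm_x : ∀ y ∈ O, Commute t y → ∃ j : ℤ, y * x * y⁻¹ * (x ^ j)⁻¹ ∈ V
  uniq : ∀ y ∈ O, orderOf y = ℓ → Commute t y → Commute x y → y ∈ zpowers x
  phi_mem : φ ∈ O
  t_phi : Commute t φ
  phi_x : φ * x * φ⁻¹ = x ^ s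
  s_pow : ∃ k : ℕ, (s : ZMod ℓ) ^ (3 ^ k) = 1
  s_ne : (s : ZMod ℓ) ≠ 1

variable {Y : Type*} [Group Y]

theorem mem_centralizer_zpowers {g v : Y} :
    v ∈ centralizer ((zpowers g : Subgroup Y) : Set Y) ↔ Commute g v := by
  rw [mem_centralizer_iff]
  exact ⟨fun h => h g (mem_zpowers g), fun h y hy => by
    obtain ⟨j, rfl⟩ := mem_zpowers_iff.1 hy
    exact (h.zpow_left j).eq⟩

theorem zpowers_le_normalizer {g : Y} {N : Subgroup Y} (hN : g ∈ normalizer (N : Set Y)) :
    zpowers g ≤ normalizer (N : Set Y) := zpowers_le.2 hN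

theorem isSolvable_zpowers (g : Y) : Group.IsSolvable (zpowers g) :=
  Group.isSolvable_of_comm fun a b => by
    obtain ⟨i, hi⟩ := mem_zpowers_iff.1 a.2
    obtain ⟨j, hj⟩ := mem_zpowers_iff.1 b.2
    refine Subtype.ext ?_
    show (a : Y) * b = b * a
    rw [← hi, ← hj]
    exact (Commute.zpow_zpow (Commute.refl g) i j).eq

/-- A coset invariant under a coprime element contains a fixed point. -/
theorem exists_fixed_coset [Finite Y] {N : Subgroup Y} {g k : Y} (hg : g ∈ normalizer (N : Set Y))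
    (hcop : (orderOf g).Coprime (Nat.card N)) (h : k⁻¹ * (g * k * g⁻¹) ∈ N) :
    ∃ c, Commute g c ∧ k⁻¹ * c ∈ N := by
  obtain ⟨c, hc, hcN⟩ := Coprime.exists_fixed_mem_coset (A := zpowers g) (zpowers_le_normalizer hg)
    (by rwa [Nat.card_zpowers]) (Or.inl (isSolvable_zpowers _)) (k := k)
    (fun y hy => by
      obtain ⟨j, rfl⟩ := mem_zpowers_iff.1 hy
      let S : Subgroup Y :=
        { carrier := {y | y ∈ normalizer (N : Set Y) ∧ k⁻¹ * (y * k * y⁻¹) ∈ N}
          one_mem' := ⟨one_mem _, by simp⟩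
          mul_mem' := by
            rintro a b ⟨ha, ha'⟩ ⟨hb, hb'⟩
            refine ⟨mul_mem ha hb, ?_⟩
            have e : k⁻¹ * (a * b * k * (a * b)⁻¹) =
                k⁻¹ * (a * k * a⁻¹) * (a * (k⁻¹ * (b * k * b⁻¹)) * a⁻¹) := by group
            exact e ▸ mul_mem ha' ((mem_normalizer_iff.1 ha _).1 hb')
          inv_mem' := by
            rintro a ⟨ha, ha'⟩
            refine ⟨inv_mem ha, ?_⟩
            have e : k⁻¹ * (a⁻¹ * k * a⁻¹⁻¹) =
                a⁻¹ * (k⁻¹ * (a * k * a⁻¹))⁻¹ * a⁻¹⁻¹ := by group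
            exact e ▸ (mem_normalizer_iff.1 (inv_mem ha) _).1 (inv_mem ha') }
      exact ((zpow_mem (show g ∈ S from ⟨hg, h⟩) j) : g ^ j ∈ S).2)
  exact ⟨c, mem_centralizer_zpowers.1 hc, hcN⟩

variable [Finite Y] {V O : Subgroup Y} {t x φ : Y} {ℓ f s : ℕ} (h : ModSetting V O t x φ ℓ f s)
include h

namespace ModSetting

variable [V.Normal]

theorem isPGroup_v : IsPGroup 3 V := fun v => ⟨1, Subtype.ext (by simpa using h.vPow v v.2)⟩

theorem normalizes (g : Y) : g ∈ normalizer (V : Set Y) := by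
  rw [normalizer_eq_top]; exact mem_top _

theorem orderOf_t : orderOf t = 2 := by
  haveI : Fact (Nat.Prime 2) := ⟨Nat.prime_two⟩
  refine orderOf_eq_prime (by rw [pow_two, h.t_sq]) fun e => h.t_notMem ?_
  rw [e]; exact one_mem _

theorem coprime_v {n : ℕ} (hn : ¬ 3 ∣ n) : n.Coprime (Nat.card V) := by
  haveI : Fact (Nat.Prime 3) := ⟨Nat.prime_three⟩
  obtain ⟨m, hm⟩ := IsPGroup.iff_card.1 h.isPGroup_v
  rw [hm]
  exact ((Nat.prime_three.coprime_iff_not_dvd).2 hn).symm.pow_right m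

theorem not_three_dvd_ell : ¬ 3 ∣ ℓ := fun e =>
  h.ne_three ((Nat.prime_dvd_prime_iff_eq Nat.prime_three h.prime).1 e).symm

theorem ell_ne_two : ℓ ≠ 2 := by
  intro e
  have hd : orderOf x ∣ Nat.card O := by
    rw [show orderOf x = orderOf (⟨x, h.x_mem⟩ : O) from (Subgroup.orderOf_mk x _).symm]
    exact orderOf_dvd_natCard _
  rw [h.x_ord, e] at hd
  exact absurd (h.oddO.of_dvd_nat hd) (by decide)

theorem x_ne_one : x ≠ 1 := fun e => h.prime.one_lt.ne' (by rw [← h.x_ord, e, orderOf_one])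

theorem eq_one_of_pow {v : Y} {n : ℕ} (hv : v ∈ V) (hn : ¬ 3 ∣ n) (hpow : v ^ n = 1) : v = 1 := by
  rw [← orderOf_eq_one_iff]
  exact Nat.eq_one_of_dvd_coprimes ((Nat.prime_three.coprime_iff_not_dvd).2 hn).symm
    (orderOf_dvd_of_pow_eq_one hpow) (orderOf_dvd_of_pow_eq_one (h.vPow v hv))

/-- A nontrivial element of order prime to 3 of `O` acts nontrivially. -/
theorem eq_one_of_centralizes {y : Y} {n : ℕ} (hy : y ∈ O) (hn : ¬ 3 ∣ n) (hpow : y ^ n = 1)
    (hc : y ∈ centralizer (V : Set Y)) : y = 1 :=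
  h.eq_one_of_pow (h.ker ⟨hy, hc⟩) hn hpow

/-- The elements of order `ℓ` of `O/V` commuting with `t` and `x` are powers of `x`. -/
theorem mem_zpowers_quotient {y : Y} (hy : y ∈ O) (hpow : y ^ ℓ ∈ V)
    (hty : y⁻¹ * (t * y * t⁻¹) ∈ V) (hxy : y⁻¹ * (x * y * x⁻¹) ∈ V) :
    ∃ j : ℤ, y⁻¹ * x ^ j ∈ V := by
  obtain ⟨c, htc, hcV⟩ := exists_fixed_coset (h.normalizes t)
    (h.coprime_v (by rw [h.orderOf_t]; norm_num)) hty
  have hcO : c ∈ O := by simpa using mul_mem hy (h.v_le hcV)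
  have hxc : c⁻¹ * (x * c * x⁻¹) ∈ V := by
    have e : c⁻¹ * (x * c * x⁻¹) =
        (y⁻¹ * c)⁻¹ * (y⁻¹ * (x * y * x⁻¹)) * (x * (y⁻¹ * c) * x⁻¹) := by group
    rw [e]
    exact mul_mem (mul_mem (inv_mem hcV) hxy) (h.vNormal.conj_mem _ hcV x)
  have hxW : x ∈ normalizer ((fixed V (zpowers t) : Subgroup Y) : Set Y) := by
    refine inf_normalizer_le_normalizer_inf ⟨h.normalizes x, ?_⟩
    exact le_normalizer (mem_centralizer_zpowers.2 h.t_x)
  obtain ⟨d, hxd, hdW⟩ := exists_fixed_coset hxW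
    ((h.coprime_v (by rw [h.x_ord]; exact h.not_three_dvd_ell)).coprime_dvd_right
      (Subgroup.card_dvd_of_le inf_le_left))
    (k := c) ⟨hxc, mem_centralizer_zpowers.2 (htc.inv_right.mul_right
      ((h.t_x.mul_right htc).mul_right h.t_x.inv_right))⟩
  have htd : Commute t d := by
    simpa using htc.mul_right (mem_centralizer_zpowers.1 hdW.2)
  have hdO : d ∈ O := by simpa using mul_mem hcO (h.v_le hdW.1)
  have hyd : y⁻¹ * d ∈ V := by simpa [mul_assoc] using mul_mem hcV hdW.1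
  have hd1 : d ^ ℓ = 1 := by
    have hm : d ^ ℓ ∈ fixed V (zpowers x) := by
      refine ⟨?_, mem_centralizer_zpowers.2 (hxd.pow_right ℓ)⟩
      have e : ((QuotientGroup.mk' V) y) = (QuotientGroup.mk' V) d := by
        simpa [QuotientGroup.eq] using hyd
      have h2 : (QuotientGroup.mk' V) (d ^ ℓ) = 1 := by
        rw [map_pow, ← e, ← map_pow]
        exact (QuotientGroup.eq_one_iff _).2 hpow
      exact (QuotientGroup.eq_one_iff _).1 h2
    rwa [h.fix_x, mem_bot] at hm
  by_cases hd : d = 1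
  · exact ⟨0, by simpa [hd] using hyd⟩
  · haveI := Fact.mk h.prime
    obtain ⟨j, rfl⟩ := mem_zpowers_iff.1 (h.uniq d hdO (orderOf_eq_prime hd1 hd) htd hxd)
    exact ⟨j, hyd⟩

theorem card_sup_zpowers_x {Q : Subgroup Y} (hxQ : x ∈ normalizer (Q : Set Y))
    (hq : ¬ ℓ ∣ Nat.card Q) : Nat.card (Q ⊔ zpowers x : Subgroup Y) = Nat.card Q * ℓ := by
  rw [Coprime.card_sup_eq (zpowers_le.2 hxQ) (Coprime.inf_eq_bot_of_coprime ?_), Nat.card_zpowers,
    h.x_ord]
  rw [Nat.card_zpowers, h.x_ord]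
  exact ((h.prime.coprime_iff_not_dvd).2 hq).symm

/-- `x` centralizes the normal `q`-subgroups of `O/V`, `q ≠ ℓ`. -/
theorem commute_of_ne {q : ℕ} (hq : q.Prime) (hql : q ≠ ℓ) (hq3 : q ≠ 3)
    (Qb : Subgroup (Y ⧸ V)) [hQn : Qb.Normal] (hQp : IsPGroup q Qb)
    (hQO : Qb.comap (QuotientGroup.mk' V) ≤ O) :
    ∀ y ∈ Qb, Commute (QuotientGroup.mk' V x) y := by
  haveI := Fact.mk hq
  haveI := Fact.mk h.prime
  set π := QuotientGroup.mk' V with hπ
  set Q1 := Qb.comap π with hQ1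
  haveI : Q1.Normal := hQn.comap π
  have hcard : Nat.card Q1 = Nat.card V * Nat.card Qb := by
    have e := (Solvable.card_comap_mk' V Qb).trans (mul_comm _ _)
    exact e
  obtain ⟨b, hb⟩ := IsPGroup.iff_card.1 hQp
  have hcop : (Nat.card (zpowers x)).Coprime (Nat.card Q1) := by
    rw [Nat.card_zpowers, h.x_ord, hcard]
    exact (h.coprime_v h.not_three_dvd_ell).mul_right
      (hb ▸ ((Nat.coprime_primes h.prime hq).2 hql.symm).pow_right b)
  obtain ⟨P, hP⟩ := Coprime.exists_invariant_sylow (G := Q1) (A := zpowers x) le_normalizer_of_normal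
    hcop (Or.inl (isSolvable_zpowers _)) q
  set Q := (P : Subgroup Q1).map Q1.subtype with hQ
  have hQle : Q ≤ Q1 := map_subtype_le _
  have hQq : IsPGroup q Q := P.isPGroup'.map _
  have hxQ : x ∈ normalizer (Q : Set Y) := hP (mem_zpowers x)
  -- `Q` covers `Qb`
  have hmap : Q.map π = Qb := by
    refine le_antisymm (map_le_iff_le_comap.2 hQle) fun y hy => ?_
    obtain ⟨z, rfl⟩ := QuotientGroup.mk'_surjective V y
    have hz : z ∈ Q1 := hy
    let g : Q1 →* Qb := π.subgroupComap Qb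
    have hg : Function.Surjective g := MonoidHom.subgroupComap_surjective_of_surjective π Qb
      (QuotientGroup.mk'_surjective V)
    have hi : ((P : Subgroup Q1).map g).index = 1 := by
      have h1 : ((P : Subgroup Q1).map g).index ∣ (P : Subgroup Q1).index :=
        index_map_dvd _ hg
      have h2 : ((P : Subgroup Q1).map g).index ∣ q ^ b := hb ▸ index_dvd_card _
      obtain ⟨i, -, hi⟩ := (Nat.dvd_prime_pow hq).1 h2
      rcases Nat.eq_zero_or_pos i with h0 | h0
      · rw [hi, h0, pow_zero]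
      · exact absurd ((dvd_pow_self q h0.ne').trans (hi ▸ h1)) P.not_dvd_index
    obtain ⟨w, hw, hwe⟩ := (index_eq_one.1 hi).ge (mem_top (⟨π z, hy⟩ : Qb))
    exact ⟨w, ⟨w, hw, rfl⟩, congrArg Subtype.val hwe⟩
  have hQ3 : ¬ 3 ∣ Nat.card Q := by
    obtain ⟨c, hc⟩ := IsPGroup.iff_card.1 hQq
    rw [hc]
    exact fun e => hq3 ((Nat.prime_dvd_prime_iff_eq Nat.prime_three hq).1
      (Nat.prime_three.dvd_of_dvd_pow e)).symm
  have hQl : ¬ ℓ ∣ Nat.card Q := by
    obtain ⟨c, hc⟩ := IsPGroup.iff_card.1 hQq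
    rw [hc]
    exact fun e => hql ((Nat.prime_dvd_prime_iff_eq h.prime hq).1 (h.prime.dvd_of_dvd_pow e)).symm
  have hq2 : Qb ≠ ⊥ → q ≠ 2 := by
    intro hne e
    have hb0 : b ≠ 0 := fun e0 => hne (card_eq_one.1 (by rw [hb, e0, pow_zero]))
    have hd : q ∣ Nat.card O := ((dvd_pow_self q hb0).trans (hb ▸ (dvd_mul_left _ _))).trans
      (hcard ▸ Subgroup.card_dvd_of_le hQO)
    rw [e] at hd
    exact absurd (h.oddO.of_dvd_nat hd) (by decide)
  intro y hy
  by_contra hne
  have hQb : Qb ≠ ⊥ := fun e => hne (by rw [e, mem_bot] at hy; rw [hy]; exact Commute.one_right _)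
  have hfaith : zpowers x ⊓ centralizer (Q : Set Y) = ⊥ := by
    refine (eq_bot_iff_forall _).2 fun w hw => ?_
    by_contra hw1
    obtain ⟨i, rfl⟩ := mem_zpowers_iff.1 hw.1
    have hxC : x ∈ centralizer (Q : Set Y) := by
      have hord : orderOf (x ^ i) = ℓ := by
        refine orderOf_eq_prime ?_ hw1
        rw [← zpow_natCast, ← zpow_mul, mul_comm, zpow_mul, zpow_natCast, ← h.x_ord,
          pow_orderOf_eq_one, one_zpow]
      have : zpowers (x ^ i) = zpowers x := eq_of_le_of_card_ge (zpowers_le.2 hw.1)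
        (by rw [Nat.card_zpowers, Nat.card_zpowers, hord, h.x_ord])
      exact zpowers_le.2 hw.2 (this.ge (mem_zpowers x))
    refine hne ?_
    rw [← hmap] at hy
    obtain ⟨z, hz, rfl⟩ := hy
    exact ((show Commute z x from mem_centralizer_iff.1 hxC z hz).symm).map π
  refine Cfsg.Agent.S3765.result Nat.prime_three hq h.prime hq3.symm h.ne_three.symm hql
    (zpowers x) Q V (by rw [Nat.card_zpowers, h.x_ord]) hQq (zpowers_le.2 hxQ) hfaith
    ⟨h.vComm, h.vPow⟩ ?_ le_normalizer_of_normal le_normalizer_of_normal ?_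
    (fun e => absurd e (hq2 hQb)) h.fix_x
  · intro hV
    refine h.x_ne_one (h.eq_one_of_centralizes h.x_mem h.not_three_dvd_ell
      (h.x_ord ▸ pow_orderOf_eq_one x) (mem_centralizer_iff.2 fun v hv => ?_))
    rw [hV, SetLike.mem_coe, mem_bot] at hv
    rw [hv, one_mul, mul_one]
  · refine (eq_bot_iff_forall _).2 fun w hw => ?_
    have hwO : w ∈ O := (sup_le (zpowers_le.2 h.x_mem) (hQle.trans hQO)) hw.1
    refine h.eq_one_of_centralizes hwO (n := Nat.card Q * ℓ) ?_ ?_ hw.2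
    · exact Nat.Prime.not_dvd_mul Nat.prime_three hQ3 h.not_three_dvd_ell
    · rw [← h.card_sup_zpowers_x hxQ hQl, sup_comm]
      exact orderOf_dvd_iff_pow_eq_one.1 ((zpowers x ⊔ Q).orderOf_dvd_natCard hw.1)

/-- A nontrivial normal elementary abelian `ℓ`-subgroup of `O/V`. -/
theorem exists_elem_normal :
    ∃ A : Subgroup (Y ⧸ V), A.Normal ∧ A ≠ ⊥ ∧ A.comap (QuotientGroup.mk' V) ≤ O ∧
      Cfsg.IsElementaryAbelian ℓ A := by
  haveI := h.oNormal
  haveI := Fact.mk h.prime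
  set π := QuotientGroup.mk' V with hπ
  haveI : Group.IsSolvable O := Cfsg.Agent.S0205.result h.oddO
  set Ob := O.map π with hOb
  haveI : Ob.Normal := Subgroup.Normal.map h.oNormal π (QuotientGroup.mk'_surjective V)
  haveI : Group.IsSolvable Ob := Group.isSolvable_of_surjective (π.subgroupMap_surjective O)
  have hcomap : Ob.comap π = O := by
    rw [comap_map_eq, QuotientGroup.ker_mk', sup_eq_left.2 h.v_le]
  let x' : Ob := ⟨π x, ⟨x, h.x_mem, rfl⟩⟩
  have hx1 : x' ≠ 1 := fun e => h.x_ne_one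
    (h.eq_one_of_pow ((QuotientGroup.eq_one_iff x).1 (congrArg Subtype.val e)) h.not_three_dvd_ell
      (h.x_ord ▸ pow_orderOf_eq_one x))
  have hL : Cfsg.pCore ℓ Ob ≠ ⊥ := by
    intro hbot
    have hxF : x' ∈ centralizer (Cfsg.fittingSubgroup Ob : Set Ob) := by
      suffices hle : Cfsg.fittingSubgroup Ob ≤ centralizer ({x'} : Set Ob) by
        exact mem_centralizer_iff.2 fun y hy => mem_centralizer_singleton_iff.1 (hle hy)
      rw [Solvable.fittingSubgroup_eq_iSup]
      refine iSup_le fun q => ?_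
      by_cases hql : (q : ℕ) = ℓ
      · rw [hql, hbot]; exact bot_le
      haveI := Fact.mk q.2
      haveI := Solvable.pCore_characteristic (G := Ob) (q : ℕ)
      set Qb := (Cfsg.pCore (q : ℕ) Ob).map Ob.subtype with hQb
      haveI : Qb.Normal := ConjAct.normal_of_characteristic_of_normal
      have hQp : IsPGroup (q : ℕ) Qb := (Solvable.isPGroup_pCore (q : ℕ)).map _
      have hQO : Qb.comap π ≤ O := (comap_mono (map_subtype_le _)).trans hcomap.le
      intro y hy
      by_cases hq3 : (q : ℕ) = 3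
      · have h3 : IsPGroup 3 (Qb.comap π) := by
          haveI : Fact (Nat.Prime 3) := ⟨Nat.prime_three⟩
          obtain ⟨a, ha⟩ := IsPGroup.iff_card.1 h.isPGroup_v
          obtain ⟨b, hb⟩ := IsPGroup.iff_card.1 (hq3 ▸ hQp)
          refine IsPGroup.of_card (n := a + b) ?_
          rw [pow_add, ← ha, ← hb]
          exact (Solvable.card_comap_mk' V Qb).trans (mul_comm _ _)
        obtain ⟨z, hz⟩ := QuotientGroup.mk'_surjective V (y : Y ⧸ V)
        have hzQ : z ∈ Qb.comap π := by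
          show π z ∈ Qb
          rw [hz]
          exact ⟨y, hy, rfl⟩
        have hzV := h.core _ inferInstance h3 hQO hzQ
        rw [show y = 1 from Subtype.ext (hz.symm.trans ((QuotientGroup.eq_one_iff z).2 hzV))]
        exact one_mem _
      · refine mem_centralizer_singleton_iff.2 (Subtype.ext ?_)
        exact (h.commute_of_ne q.2 hql hq3 Qb hQp hQO y ⟨y, hy, rfl⟩).eq.symm
    have hxm := Solvable.centralizer_fittingSubgroup_le hxF
    haveI : Group.IsNilpotent (Cfsg.fittingSubgroup Ob) := Solvable.fittingSubgroup_isNilpotent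
    set F := Cfsg.fittingSubgroup Ob
    obtain ⟨P⟩ : Nonempty (Sylow ℓ F) := inferInstance
    have hPn : (P : Subgroup F).Normal := (Group.isNilpotent_of_finite_tfae.out 0 3 rfl rfl).1 inferInstance ℓ inferInstance P
    haveI : (P : Subgroup F).Characteristic := P.characteristic_of_normal hPn
    haveI := Solvable.fittingSubgroup_normal (G := Ob)
    haveI : ((P : Subgroup F).map F.subtype).Normal := ConjAct.normal_of_characteristic_of_normal
    have hPle : (P : Subgroup F).map F.subtype ≤ Cfsg.pCore ℓ Ob :=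
      Solvable.le_pCore (P.isPGroup'.map _)
    rw [hbot] at hPle
    have hxl : IsPGroup ℓ (zpowers (⟨x', hxm⟩ : F)) := IsPGroup.of_card_dvd_pow (n := 1) (by
      rw [Nat.card_zpowers, pow_one, Subgroup.orderOf_mk, ← Subgroup.orderOf_coe]
      exact h.x_ord ▸ orderOf_map_dvd π x)
    obtain ⟨P', hP'⟩ := hxl.exists_le_sylow
    letI := Sylow.unique_of_normal P hPn
    have hm := hPle ⟨⟨x', hxm⟩, (Subsingleton.elim P' P) ▸ hP' (mem_zpowers _), rfl⟩
    exact hx1 hm
  -- elements of exponent `ℓ` of the centre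
  haveI := Solvable.pCore_characteristic (G := Ob) ℓ
  set L := Cfsg.pCore ℓ Ob with hLdef
  let A' : Subgroup Ob :=
    { carrier := {a | a ∈ L ∧ a ^ ℓ = 1 ∧ ∀ b ∈ L, Commute a b}
      one_mem' := ⟨one_mem _, one_pow _, fun b _ => Commute.one_left b⟩
      mul_mem' := fun {a b} ha hb => ⟨mul_mem ha.1 hb.1,
        by rw [(ha.2.2 b hb.1).mul_pow, ha.2.1, hb.2.1, one_mul],
        fun c hc => (ha.2.2 c hc).mul_left (hb.2.2 c hc)⟩
      inv_mem' := fun {a} ha => ⟨inv_mem ha.1, by rw [inv_pow, ha.2.1, inv_one],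
        fun c hc => (ha.2.2 c hc).inv_left⟩ }
  have hA'c : A'.Characteristic := by
    refine characteristic_iff_map_le.2 fun e => ?_
    rintro _ ⟨a, ⟨ha1, ha2, ha3⟩, rfl⟩
    have hLe : L.map e.toMonoidHom = L := characteristic_iff_map_eq.1 inferInstance e
    refine ⟨hLe.le ⟨a, ha1, rfl⟩, by rw [← map_pow, ha2, map_one], fun b hb => ?_⟩
    obtain ⟨c, hc, rfl⟩ := hLe.ge hb
    exact (ha3 c hc).map e.toMonoidHom
  haveI := hA'c
  refine ⟨A'.map Ob.subtype, ConjAct.normal_of_characteristic_of_normal, ?_,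
    (comap_mono (map_subtype_le _)).trans hcomap.le, ?_, ?_⟩
  · intro hbot
    have hLp : IsPGroup ℓ L := Solvable.isPGroup_pCore ℓ
    haveI : Nontrivial L := (nontrivial_iff_ne_bot L).2 hL
    obtain ⟨z, hz, hz1⟩ := hLp.center_nontrivial |> fun hn =>
      (bot_or_exists_ne_one (center L)).resolve_left ((nontrivial_iff_ne_bot _).1 hn)
    obtain ⟨n, hn⟩ := hLp z
    obtain ⟨m, hm, hm1, hm2⟩ : ∃ m : ℕ, m < n + 1 ∧ z ^ ℓ ^ m ≠ 1 ∧ (z ^ ℓ ^ m) ^ ℓ = 1 := by
      by_contra hno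
      push Not at hno
      have : ∀ m ≤ n, z ^ ℓ ^ m ≠ 1 := by
        intro m
        induction m with
        | zero => simp [hz1]
        | succ m ih =>
          intro hm
          rw [pow_succ, pow_mul]
          exact hno m (by omega) (ih (by omega))
      exact this n le_rfl hn
    refine hm1 ?_
    have hmem : ((z ^ ℓ ^ m : L) : Ob) ∈ A' := ⟨SetLike.coe_mem _,
      by rw [← Subgroup.coe_pow, hm2, Subgroup.coe_one], fun b hb => by
        have hc := Subgroup.mem_center_iff.1 (pow_mem hz (ℓ ^ m)) ⟨b, hb⟩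
        exact (congrArg Subtype.val hc).symm⟩
    have h1 : (((z ^ ℓ ^ m : L) : Ob) : Y ⧸ V) ∈ A'.map Ob.subtype := ⟨_, hmem, rfl⟩
    rw [hbot, mem_bot] at h1
    exact Subtype.ext (Subtype.ext h1)
  · refine ⟨⟨?_⟩⟩
    rintro ⟨_, a, ha, rfl⟩ ⟨_, b, hb, rfl⟩
    exact Subtype.ext ((ha.2.2 b hb.1).map Ob.subtype).eq
  · rintro _ ⟨a, ha, rfl⟩
    rw [← map_pow, ha.2.1, map_one]

/-- A normal `ℓ`-subgroup of `O/V` lifts to a subgroup normalized by `t` and `x`. -/
theorem exists_lift (A : Subgroup (Y ⧸ V)) [hAn : A.Normal]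
    (hAO : A.comap (QuotientGroup.mk' V) ≤ O) (hA : Cfsg.IsElementaryAbelian ℓ A) :
    ∃ A' : Subgroup Y, A' ≤ O ∧ Cfsg.IsElementaryAbelian ℓ A' ∧
      A'.map (QuotientGroup.mk' V) = A ∧ A' ⊓ V = ⊥ ∧ t ∈ normalizer (A' : Set Y) ∧
      x ∈ normalizer (A' : Set Y) ∧
      (QuotientGroup.mk' V x ∈ A → x ∈ A') := by
  haveI := h.oNormal
  haveI := Fact.mk h.prime
  haveI : Fact (Nat.Prime 2) := ⟨Nat.prime_two⟩
  set π := QuotientGroup.mk' V with hπ
  set C1 := A.comap π with hC1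
  haveI : C1.Normal := hAn.comap π
  set A1 := C1 ⊔ zpowers x with hA1
  have hA1O : A1 ≤ O := sup_le hAO (zpowers_le.2 h.x_mem)
  have htA1 : zpowers t ≤ normalizer (A1 : Set Y) := by
    refine zpowers_le.2 ?_
    have h1 : t ∈ normalizer ((zpowers x : Subgroup Y) : Set Y) :=
      centralizer_le_normalizer _ (mem_centralizer_zpowers.2 h.t_x.symm)
    exact normalizer_inf_normalizer_le_normalizer_sup _ _
      ⟨(normalizer_eq_top C1).ge (mem_top t), h1⟩
  have hcop : (Nat.card (zpowers t)).Coprime (Nat.card A1) := by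
    rw [Nat.card_zpowers, h.orderOf_t]
    exact (Nat.coprime_two_left.2 (h.oddO.of_dvd_nat (Subgroup.card_dvd_of_le hA1O)))
  have hxp : IsPGroup ℓ (zpowers x) :=
    IsPGroup.of_card (n := 1) (by rw [Nat.card_zpowers, h.x_ord, pow_one])
  obtain ⟨P, hxP, htP⟩ := Coprime.exists_invariant_sylow_ge htA1 hcop
    (Or.inl (isSolvable_zpowers _)) (U := zpowers x) le_sup_right hxp
    (zpowers_le.2 (centralizer_le_normalizer _ (mem_centralizer_zpowers.2 h.t_x.symm)))
  set Ps := (P : Subgroup A1).map A1.subtype with hPs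
  have hPsA : Ps ≤ A1 := map_subtype_le _
  set A' := Ps ⊓ C1 with hA'
  have hPp : IsPGroup ℓ Ps := P.isPGroup'.map _
  have hA'O : A' ≤ O := inf_le_left.trans (hPsA.trans hA1O)
  have hinf : A' ⊓ V = ⊥ := by
    refine (eq_bot_iff_forall _).2 fun w hw => ?_
    obtain ⟨k, hk⟩ := hPp ⟨w, hw.1.1⟩
    exact h.eq_one_of_pow hw.2 (fun e => h.not_three_dvd_ell (Nat.prime_three.dvd_of_dvd_pow e))
      (by simpa using congrArg Subtype.val hk)
  have hmap : A'.map π = A := by
    refine le_antisymm (map_le_iff_le_comap.2 inf_le_right) fun y hy => ?_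
    -- the image of `A1` is an `ℓ`-group, so the image of `P` is all of it
    let g : A1 →* A1.map π := π.subgroupMap A1
    have hgs : Function.Surjective g := π.subgroupMap_surjective A1
    have himg : IsPGroup ℓ (A1.map π) := by
      have he : A1.map π = A ⊔ (zpowers x).map π := by
        rw [hA1, Subgroup.map_sup, hC1, map_comap_eq_self_of_surjective (QuotientGroup.mk'_surjective V)]
      rw [he]
      refine IsPGroup.to_sup_of_normal_left' (fun a => ⟨1, Subtype.ext (by simpa using hA.2 a a.2)⟩)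
        (hxp.map π) le_normalizer_of_normal
    obtain ⟨b, hb⟩ := IsPGroup.iff_card.1 himg
    have hi : ((P : Subgroup A1).map g).index = 1 := by
      have h1 : ((P : Subgroup A1).map g).index ∣ (P : Subgroup A1).index := index_map_dvd _ hgs
      have h2 : ((P : Subgroup A1).map g).index ∣ ℓ ^ b := hb ▸ index_dvd_card _
      obtain ⟨i, -, hi⟩ := (Nat.dvd_prime_pow h.prime).1 h2
      rcases Nat.eq_zero_or_pos i with h0 | h0
      · rw [hi, h0, pow_zero]
      · exact absurd ((dvd_pow_self ℓ h0.ne').trans (hi ▸ h1)) P.not_dvd_index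
    obtain ⟨z, rfl⟩ := QuotientGroup.mk'_surjective V y
    obtain ⟨w, hw, hwe⟩ := (index_eq_one.1 hi).ge
      (mem_top (⟨π z, ⟨z, mem_sup_left hy, rfl⟩⟩ : A1.map π))
    have hwe' : π (w : Y) = π z := congrArg Subtype.val hwe
    exact ⟨w, ⟨⟨w, hw, rfl⟩, by show π (w : Y) ∈ A; rw [hwe']; exact hy⟩, hwe'⟩
  refine ⟨A', hA'O, ⟨⟨⟨fun a b => ?_⟩⟩, fun a ha => ?_⟩, hmap, hinf, ?_, ?_, fun hx => ?_⟩
  · have hV : (a : Y) * b * (a : Y)⁻¹ * (b : Y)⁻¹ ∈ A' ⊓ V := by
      refine ⟨A'.mul_mem (A'.mul_mem (A'.mul_mem a.2 b.2) (A'.inv_mem a.2)) (A'.inv_mem b.2), ?_⟩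
      refine (QuotientGroup.eq_one_iff _).1 ?_
      show π _ = 1
      simp only [map_mul, map_inv]
      have hc : π (a : Y) * π b = π b * π a := congrArg Subtype.val
        (hA.1.is_comm.comm ⟨π a, a.2.2⟩ ⟨π b, b.2.2⟩)
      rw [hc]; group
    rw [hinf, mem_bot] at hV
    exact Subtype.ext (mul_inv_eq_iff_eq_mul.1 (mul_inv_eq_one.1 hV))
  · have hV : a ^ ℓ ∈ A' ⊓ V := ⟨pow_mem ha ℓ, (QuotientGroup.eq_one_iff _).1
      (show π (a ^ ℓ) = 1 by rw [map_pow]; exact hA.2 _ ha.2)⟩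
    rwa [hinf, mem_bot] at hV
  · exact inf_normalizer_le_normalizer_inf ⟨htP (mem_zpowers t), (normalizer_eq_top C1).ge (mem_top t)⟩
  · exact inf_normalizer_le_normalizer_inf
      ⟨le_normalizer (hxP (mem_zpowers x)), (normalizer_eq_top C1).ge (mem_top x)⟩
  · exact ⟨hxP (mem_zpowers x), hx⟩

end ModSetting

end CfsgLib.Walter.FieldThree
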