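import Cfsg.Agent.Walter.FieldThree.OddModule.Basic
import Cfsg.Agent.Coprime.Abelian

/-!
# The conjugates of `x` commute modulo the module
-/

set_option autoImplicit false
set_option linter.style.haveILetI false
set_option linter.unusedSectionVars false

open Subgroup

namespace CfsgLib.Walter.FieldThree

variable {Y : Type*} [Group Y] [Finite Y] {V O : Subgroup Y} {t x φ : Y} {ℓ f s : ℕ}
  [V.Normal] (h : ModSetting V O t x φ ℓ f s)
include h

namespace ModSetting

theorem fix_t_eq {W' : Subgroup Y} (hle : W' ≤ fixed V (zpowers t))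
    (hxW : x ∈ normalizer (W' : Set Y)) (hne : W' ≠ ⊥) :
    W' = fixed V (zpowers t) ∧ Nat.card W' = 3 ^ f := by
  have hfx : fixed W' (zpowers x) = ⊥ :=
    le_bot_iff.1 ((inf_le_inf_right _ (hle.trans inf_le_left)).trans h.fix_x.le)
  have hord : orderOf ((3 : ℕ) : ZMod ℓ) = f := by exact_mod_cast h.ord
  have hc := card_eq_of_invariant h.prime hord (h.x_ord ▸ pow_orderOf_eq_one x) hxW hfx
    Nat.prime_three hne ((Subgroup.card_dvd_of_le hle).trans h.fix_t)
  exact ⟨eq_of_le_of_card_ge hle (hc ▸ Nat.le_of_dvd (by positivity) h.fix_t), hc⟩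

theorem x_normalizes_fixed {A : Subgroup Y} (hxA : x ∈ normalizer (A : Set Y)) :
    x ∈ normalizer ((fixed V A : Subgroup Y) : Set Y) := by
  refine mem_normalizer_iff_map_conj_eq.2 ?_
  show (fixed V A).map (MulAut.conj x).toMonoidHom = _
  rw [map_fixed x (h.normalizes x), map_conj_eq hxA]

/-- The conjugates of `x` commute modulo `V`. -/
theorem conj_commute (g : Y) :
    Commute (QuotientGroup.mk' V x) (QuotientGroup.mk' V (g * x * g⁻¹)) := by
  haveI := h.oNormal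
  haveI := Fact.mk h.prime
  haveI hVc := h.vComm
  have vc : ∀ {a b : Y}, a ∈ V → b ∈ V → a * b = b * a := fun ha hb =>
    congrArg Subtype.val (hVc.is_comm.comm ⟨_, ha⟩ ⟨_, hb⟩)
  set π := QuotientGroup.mk' V with hπ
  have h3 : ∀ v ∈ V, v ^ 2 = 1 → v = 1 := fun v hv hv2 =>
    h.eq_one_of_pow hv (by norm_num) hv2
  obtain ⟨A, hAn, hA0, hAO, hAel⟩ := h.exists_elem_normal
  obtain ⟨A', hA'O, hA', hmap, -, htA, hxA, hxmem⟩ := h.exists_lift A hAO hAel
  haveI := hA'.1
  have hAV : A' ≤ normalizer (V : Set Y) := fun a _ => h.normalizes a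
  have hAp : ∀ a ∈ A', a ^ ℓ = 1 := hA'.2
  have hfree : ∀ a ∈ A', a ∈ centralizer (V : Set Y) → a = 1 := fun a ha hc =>
    h.eq_one_of_centralizes (hA'O ha) h.not_three_dvd_ell (hAp a ha) hc
  have hxa : ∀ a ∈ A', Commute x a := fun a ha => by
    have hc := commutator_mem_centralizer h.prime hA' Nat.prime_three h.ne_three h.vComm h.vPow hAV
      h.x_ord hxA (h.normalizes x) h.fix_x ha
    have hcA : a * x * a⁻¹ * x⁻¹ ∈ A' := by
      simpa [mul_assoc] using mul_mem ha ((mem_normalizer_iff.1 hxA a⁻¹).1 (inv_mem ha))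
    exact ((mul_inv_eq_iff_eq_mul.1 (mul_inv_eq_one.1 (hfree _ hcA hc))).symm)
  by_cases hfix : ∃ a ∈ A', a ≠ 1 ∧ Commute t a
  · -- then `x` is in the normal abelian subgroup
    obtain ⟨a, ha, ha1, hta⟩ := hfix
    have hord : orderOf a = ℓ := orderOf_eq_prime (hAp a ha) ha1
    have hz := h.uniq a (hA'O ha) hord hta (hxa a ha)
    have heq : zpowers a = zpowers x := eq_of_le_of_card_ge (zpowers_le.2 hz)
      (by rw [Nat.card_zpowers, Nat.card_zpowers, hord, h.x_ord])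
    have hxA' : π x ∈ A := hmap ▸ ⟨x, zpowers_le.2 ha (heq.ge (mem_zpowers x)), rfl⟩
    have hgx : π (g * x * g⁻¹) ∈ A := by
      rw [map_mul, map_mul, map_inv]; exact hAn.conj_mem _ hxA' _
    exact congrArg Subtype.val (hAel.1.is_comm.comm ⟨_, hxA'⟩ ⟨_, hgx⟩)
  push Not at hfix
  have htinv : t⁻¹ = t := inv_eq_of_mul_eq_one_left h.t_sq
  -- `t` inverts `A'`
  have hinv : ∀ a ∈ A', t * a * t⁻¹ = a⁻¹ := by
    intro a ha
    have hb := (mem_normalizer_iff.1 htA a).1 ha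
    by_contra hne
    refine hfix (a * (t * a * t⁻¹)) (mul_mem ha hb) (fun e => hne (inv_eq_of_mul_eq_one_right e).symm) ?_
    have hcm : a * (t * a * t⁻¹) = t * a * t⁻¹ * a :=
      congrArg Subtype.val (hA'.1.is_comm.comm ⟨a, ha⟩ ⟨_, hb⟩)
    calc t * (a * (t * a * t⁻¹)) = t * (t * a * t⁻¹ * a) := by rw [hcm]
      _ = (t * t) * a * t⁻¹ * a := by group
      _ = a * (t * a * t⁻¹) * t := by rw [h.t_sq, htinv, show a * (t * a * t) * t = a * t * a * (t * t) by group, h.t_sq]; group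
  set F := fixed V A' with hF
  set W := fixed V (zpowers t) with hW
  have hsq : ∀ a ∈ A', ∀ u : Y, Commute (a ^ 2) u → Commute a u := by
    intro a ha u hc
    obtain ⟨m, hm⟩ := exists_pow_eq_self_of_coprime (x := a) (n := 2)
      (((Nat.coprime_primes Nat.prime_two h.prime).2 h.ell_ne_two.symm).coprime_dvd_right
        (orderOf_dvd_of_pow_eq_one (hAp a ha)))
    exact hm ▸ hc.pow_left m
  have hcommK : ∀ {K : Subgroup Y}, IsHyp ℓ A' K → ∀ a ∈ A', a ∈ normalizer (K : Set Y) :=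
    fun hK a ha => centralizer_le_normalizer _ (centralizer_le (SetLike.coe_subset_coe.2 hK.le)
      (le_centralizer_iff_isMulCommutative.2 hA'.1 ha))
  have hstab : ∀ {K : Subgroup Y}, K ≤ A' → t ∈ normalizer (K : Set Y) := fun hK =>
    mem_normalizer_fintype fun k hk => by rw [hinv k (hK hk)]; exact inv_mem hk
  -- every supporting hyperplane contributes to `W`
  have hWK : ∀ K, Supp ℓ V A' K → W ≤ fixed V K ∧ ∃ w ∈ W, w ∉ F := by
    intro K hK
    suffices hex : ∃ u ∈ fixed V K, u * (t * u * t⁻¹) ∉ F by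
      obtain ⟨u, hu, hu'⟩ := hex
      set w := u * (t * u * t⁻¹)
      have hwK : w ∈ fixed V K := mul_mem hu (by
        have hm : t * u * t⁻¹ ∈ (fixed V K).map (MulAut.conj t).toMonoidHom := ⟨u, hu, rfl⟩
        rwa [map_fixed t (h.normalizes t), map_conj_eq (hstab hK.1.le)] at hm)
      have hwW : w ∈ W := by
        refine ⟨hwK.1, mem_centralizer_zpowers.2 ?_⟩
        have hc := vc hu.1 (h.vComm |> fun _ => ((inferInstance : V.Normal).conj_mem u hu.1 t))
        show t * w = w * t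
        calc t * w = (t * u * t⁻¹) * (t * t) * u * t⁻¹ := by simp only [w]; group
          _ = t * u * t⁻¹ * u * t := by rw [h.t_sq, htinv]; group
          _ = w * t := by rw [← hc]
      have hne : W ⊓ fixed V K ≠ ⊥ := fun e => by
        have hm : w ∈ W ⊓ fixed V K := ⟨hwW, hwK⟩
        rw [e, mem_bot] at hm
        exact hu' (hm ▸ one_mem F)
      have hxn : x ∈ normalizer ((W ⊓ fixed V K : Subgroup Y) : Set Y) :=
        inf_normalizer_le_normalizer_inf
          ⟨h.x_normalizes_fixed (centralizer_le_normalizer _ (mem_centralizer_zpowers.2 h.t_x)),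
            h.x_normalizes_fixed (centralizer_le_normalizer _ (mem_centralizer_iff.2
              fun k hk => (hxa k (hK.1.le hk)).eq.symm))⟩
      exact ⟨((h.fix_t_eq inf_le_left hxn hne).1.ge).trans inf_le_right, w, hwW, hu'⟩
    by_contra hno
    push Not at hno
    obtain ⟨a, ha, haK⟩ := SetLike.not_le_iff_exists.1
      (fun hle => hK.1.ne (le_antisymm hK.1.le hle))
    refine hK.2 fun u hu => ?_
    have hau : a * u * a⁻¹ ∈ fixed V K := by
      have hm : a * u * a⁻¹ ∈ (fixed V K).map (MulAut.conj a).toMonoidHom := ⟨u, hu, rfl⟩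
      rwa [map_fixed a (h.normalizes a), map_conj_eq (hcommK hK.1 a ha)] at hm
    set q := u * (t * u * t⁻¹) with hq
    have hqF : q ∈ F := hno u hu
    have hqa : Commute a q := mem_centralizer_iff.1 hqF.2 a ha
    have h1 := hno _ hau
    have e1 : a * u * a⁻¹ * (t * (a * u * a⁻¹) * t⁻¹) = (a * u * a⁻¹) * (a⁻¹ * u⁻¹ * a) * q := by
      have e : t * (a * u * a⁻¹) * t⁻¹ = a⁻¹ * u⁻¹ * q * a := by
        calc t * (a * u * a⁻¹) * t⁻¹ = (t * a * t⁻¹) * (t * u * t⁻¹) * (t * a * t⁻¹)⁻¹ := by group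
          _ = a⁻¹ * u⁻¹ * q * a := by rw [hinv a ha, hq]; group
      rw [e, mul_assoc _ q a, ← hqa.eq]
      group
    rw [e1] at h1
    have h2 : a * u * a⁻¹ * (a⁻¹ * u⁻¹ * a) ∈ F := by
      have := mul_mem h1 (inv_mem hqF)
      rwa [mul_inv_cancel_right] at this
    set d := a ^ 2 * u * (a ^ 2)⁻¹ * u⁻¹ with hd
    have hdF : d ∈ F := by
      have e : d = a * (a * u * a⁻¹ * (a⁻¹ * u⁻¹ * a)) * a⁻¹ := by simp [hd, pow_two, mul_assoc]
      have hfix2 : Commute a (a * u * a⁻¹ * (a⁻¹ * u⁻¹ * a)) := mem_centralizer_iff.1 h2.2 a ha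
      rw [e, hfix2.eq, mul_inv_cancel_right]
      exact h2
    have hda : Commute (a ^ 2) d := mem_centralizer_iff.1 hdF.2 _ (pow_mem ha 2)
    have hn : ∀ n : ℕ, (a ^ 2) ^ n * u * ((a ^ 2) ^ n)⁻¹ = d ^ n * u := by
      intro n
      induction n with
      | zero => simp
      | succ n ih =>
        calc (a ^ 2) ^ (n + 1) * u * ((a ^ 2) ^ (n + 1))⁻¹
            = a ^ 2 * ((a ^ 2) ^ n * u * ((a ^ 2) ^ n)⁻¹) * (a ^ 2)⁻¹ := by rw [pow_succ']; group
          _ = (a ^ 2 * d ^ n) * u * (a ^ 2)⁻¹ := by rw [ih]; group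
          _ = d ^ n * (a ^ 2 * u * (a ^ 2)⁻¹) := by rw [(hda.pow_right n).eq]; group
          _ = d ^ (n + 1) * u := by
            have e : a ^ 2 * u * (a ^ 2)⁻¹ = d * u := by rw [hd, inv_mul_cancel_right]
            rw [e, pow_succ d n]
            exact (mul_assoc _ _ _).symm
    have hd1 : d = 1 := by
      refine h.eq_one_of_pow hdF.1 h.not_three_dvd_ell ?_
      have := hn ℓ
      rw [← pow_mul, mul_comm, pow_mul, hAp a ha, one_pow, one_mul, inv_one, mul_one] at this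
      exact mul_eq_right.1 this.symm
    have hau2 : Commute a u := hsq a ha u (mul_inv_eq_iff_eq_mul.1 (mul_inv_eq_one.1 hd1))
    refine ⟨hu.1, ?_⟩
    suffices hle : A' ≤ centralizer ({u} : Set Y) by
      exact mem_centralizer_iff.2 fun b hb => mem_centralizer_singleton_iff.1 (hle hb)
    rw [← hK.1.sup_zpowers h.prime ha haK]
    exact sup_le (fun k hk => mem_centralizer_singleton_iff.2 (mem_centralizer_iff.1 hu.2 k hk))
      (zpowers_le.2 (mem_centralizer_singleton_iff.2 hau2.eq))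
  -- the only supporting hyperplane is trivial
  obtain ⟨K, hK⟩ : ∃ K, Supp ℓ V A' K := by
    by_contra hno
    push Not at hno
    refine hA0 (hmap ▸ ?_)
    refine (Subgroup.map_eq_bot_iff _).2 fun a ha => ?_
    rw [hfree a ha (mem_centralizer_of_supp h.prime hA' Nat.prime_three h.ne_three h.vComm h.vPow hAV
      (fun v hv => mem_centralizer_iff.1 hv.2 a ha) fun K hK => absurd hK (hno K))]
    exact one_mem _
  obtain ⟨hWle, w, hwW, hwF⟩ := hWK K hK
  have huniq : ∀ K', Supp ℓ V A' K' → K' = K := by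
    intro K' hK'
    by_contra hne
    refine hwF ⟨hwW.1, mem_centralizer_iff.2 fun b hb => ?_⟩
    have hle : A' ≤ centralizer ({w} : Set Y) := by
      rw [← hK.1.sup_eq h.prime hK'.1 hne]
      exact sup_le (fun k hk => mem_centralizer_singleton_iff.2 (mem_centralizer_iff.1 (hWle hwW).2 k hk))
        fun k hk => mem_centralizer_singleton_iff.2 (mem_centralizer_iff.1 ((hWK K' hK').1 hwW).2 k hk)
    exact mem_centralizer_singleton_iff.1 (hle hb)
  have hKbot : K = ⊥ := (eq_bot_iff_forall _).2 fun k hk => hfree k (hK.1.le hk)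
    (mem_centralizer_of_supp h.prime hA' Nat.prime_three h.ne_three h.vComm h.vPow hAV
      (fun v hv => mem_centralizer_iff.1 hv.2 k (hK.1.le hk))
      fun K' hK' v hv => mem_centralizer_iff.1 hv.2 k (huniq K' hK' ▸ hk))
  obtain ⟨a, ha, haK⟩ := SetLike.not_le_iff_exists.1 (fun hle => hK.1.ne (le_antisymm hK.1.le hle))
  have hgenA : A' = zpowers a := by
    rw [← hK.1.sup_zpowers h.prime ha haK, hKbot, bot_sup_eq]
  have hFa : ∀ u, u ∈ F ↔ u ∈ V ∧ Commute a u := fun u => by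
    rw [hF]
    exact and_congr_right fun _ => by rw [hgenA]; exact mem_centralizer_zpowers
  -- `V = F × V₁`
  set V1 := ⁅V, A'⁆ with hV1
  have hV1V : V1 ≤ V := Coprime.commutator_le_of_le_normalizer hAV
  have hcopA : (Nat.card A').Coprime (Nat.card V) := by
    rw [hgenA, Nat.card_zpowers, orderOf_eq_prime (hAp a ha) (fun e => haK (e ▸ one_mem K))]
    exact h.coprime_v h.not_three_dvd_ell
  have hdis : F ⊓ V1 = ⊥ := Coprime.inf_centralizer_inf_commutator_eq_bot hAV hcopA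
  have hsplit : F ⊔ V1 = V := Coprime.inf_centralizer_sup_commutator_eq hAV hcopA
  have hnV1 : ∀ y, y ∈ normalizer (A' : Set Y) → y ∈ normalizer (V1 : Set Y) := fun y hy => by
    refine mem_normalizer_iff_map_conj_eq.2 ?_
    show V1.map (MulAut.conj y).toMonoidHom = V1
    rw [hV1, Subgroup.map_commutator, map_conj_eq (h.normalizes y), map_conj_eq hy]
  have haA : a ∈ normalizer (A' : Set Y) := le_normalizer ha
  have cmem : ∀ {Z : Subgroup Y} {y : Y}, y ∈ normalizer (Z : Set Y) → ∀ {u}, u ∈ Z → y * u * y⁻¹ ∈ Z :=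
    fun hy _ hu => (mem_normalizer_iff.1 hy _).1 hu
  -- the map exchanging fixed and inverted elements
  let δ : Y → Y := fun u => a * u * a⁻¹ * (a⁻¹ * u * a⁻¹⁻¹)⁻¹
  have δmem : ∀ {Z : Subgroup Y}, a ∈ normalizer (Z : Set Y) → ∀ {u}, u ∈ Z → δ u ∈ Z := fun hZ _ hu =>
    mul_mem (cmem hZ hu) (inv_mem (cmem (inv_mem hZ) hu))
  have δmul : ∀ {u v}, u ∈ V → v ∈ V → δ (u * v) = δ u * δ v := by
    intro u v hu hv
    have c1 := vc (inv_mem (cmem (h.normalizes a⁻¹) hu)) (cmem (h.normalizes a) hv)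
    calc δ (u * v) = a * u * a⁻¹ * (a * v * a⁻¹ * (a⁻¹ * v * a⁻¹⁻¹)⁻¹) * (a⁻¹ * u * a⁻¹⁻¹)⁻¹ := by
          simp only [δ]; group
      _ = a * u * a⁻¹ * ((a⁻¹ * u * a⁻¹⁻¹)⁻¹ * (a * v * a⁻¹ * (a⁻¹ * v * a⁻¹⁻¹)⁻¹)) := by
          rw [mul_assoc (a * u * a⁻¹)]
          exact congrArg _ (vc (δmem (h.normalizes a) hv) (inv_mem (cmem (h.normalizes a⁻¹) hu)))
      _ = δ u * δ v := by simp only [δ]; group
  have δone : ∀ u ∈ V1, δ u = 1 → u = 1 := by
    intro u hu he
    have e : Commute (a ^ 2) u := by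
      have e1 : a * u * a⁻¹ = a⁻¹ * u * a⁻¹⁻¹ := mul_inv_eq_one.1 he
      show a ^ 2 * u = u * a ^ 2
      calc a ^ 2 * u = a * (a * u * a⁻¹) * a := by simp [pow_two, mul_assoc]
        _ = u * a ^ 2 := by rw [e1]; simp [pow_two, mul_assoc]
    have hm : u ∈ F ⊓ V1 := ⟨(hFa u).2 ⟨hV1V hu, hsq a ha u e⟩, hu⟩
    rwa [hdis, mem_bot] at hm
  have htu : ∀ {u}, u ∈ V → t * δ u * t⁻¹ = (δ (t * u * t⁻¹))⁻¹ := by
    intro u _
    calc t * δ u * t⁻¹ = (t * a * t⁻¹) * (t * u * t⁻¹) * (t * a * t⁻¹)⁻¹ *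
          ((t * a * t⁻¹)⁻¹ * (t * u * t⁻¹) * (t * a * t⁻¹))⁻¹ := by simp only [δ]; group
      _ = (δ (t * u * t⁻¹))⁻¹ := by rw [hinv a ha]; simp [δ, mul_assoc]
  have htc : ∀ {u}, u ∈ V → t * (u * (t * u * t⁻¹)) * t⁻¹ = u * (t * u * t⁻¹) := by
    intro u hu
    calc t * (u * (t * u * t⁻¹)) * t⁻¹ = (t * u * t⁻¹) * ((t * t) * u * (t * t)⁻¹) := by group
      _ = t * u * t⁻¹ * u := by rw [h.t_sq]; group
      _ = u * (t * u * t⁻¹) := (vc hu (cmem (h.normalizes t) hu)).symm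
  have hti : ∀ {u}, u ∈ V → t * (u * (t * u * t⁻¹)⁻¹) * t⁻¹ = (u * (t * u * t⁻¹)⁻¹)⁻¹ := by
    intro u hu
    calc t * (u * (t * u * t⁻¹)⁻¹) * t⁻¹ = (t * u * t⁻¹) * ((t * t) * u * (t * t)⁻¹)⁻¹ := by group
      _ = t * u * t⁻¹ * u⁻¹ := by rw [h.t_sq]; group
      _ = (u * (t * u * t⁻¹)⁻¹)⁻¹ := by group
  have hcomm_t : ∀ {u}, t * u * t⁻¹ = u → Commute t u := fun e => mul_inv_eq_iff_eq_mul.1 e
  have hδfix : ∀ {u}, u ∈ V → t * u * t⁻¹ = u⁻¹ → Commute t (δ u) := by
    intro u hu e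
    refine hcomm_t ?_
    rw [htu hu, e]
    refine inv_eq_of_mul_eq_one_right ?_
    rw [← δmul (inv_mem hu) hu, inv_mul_cancel]
    simp [δ]
  -- `W ≤ V₁`
  have hV1ne : V1 ≠ ⊥ := fun e => by
    have hFV : V ≤ F := by rw [← hsplit, e, sup_bot_eq]
    exact haK (hKbot ▸ (mem_bot.2 (hfree a ha (mem_centralizer_iff.2 fun v hv =>
      ((hFa v).1 (hFV hv)).2.eq.symm))))
  have hxa' : x ∈ normalizer (A' : Set Y) := hxA
  have hxV1 := hnV1 x hxa'
  have htV1 := hnV1 t htA
  have haV1 := hnV1 a haA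
  have hWV1 : W ≤ V1 := by
    obtain ⟨u, hu, hu1⟩ := (bot_or_exists_ne_one V1).resolve_left hV1ne
    have hmem : ∃ p ∈ V1 ⊓ W, p ≠ 1 := by
      by_cases hp : u * (t * u * t⁻¹) = 1
      · exact ⟨δ u, ⟨δmem haV1 hu, δmem (h.normalizes a) (hV1V hu), mem_centralizer_zpowers.2
          (hδfix (hV1V hu) (inv_eq_of_mul_eq_one_right hp).symm)⟩, fun e => hu1 (δone u hu e)⟩
      · exact ⟨_, ⟨mul_mem hu (cmem htV1 hu), mul_mem (hV1V hu) (cmem (h.normalizes t) (hV1V hu)),
          mem_centralizer_zpowers.2 (hcomm_t (htc (hV1V hu)))⟩, hp⟩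
    obtain ⟨p, hp, hp1⟩ := hmem
    refine (h.fix_t_eq inf_le_right (inf_normalizer_le_normalizer_inf ⟨hxV1, ?_⟩)
      (fun e => hp1 ((eq_bot_iff_forall _).1 e p hp))).1.ge.trans inf_le_left
    exact h.x_normalizes_fixed (centralizer_le_normalizer _ (mem_centralizer_zpowers.2 h.t_x))
  -- the `a`-orbit of a nontrivial fixed element of `t` generates `V₁`
  obtain ⟨v, hv, hv1⟩ : ∃ v ∈ W, v ≠ 1 := ⟨w, hwW, fun e => hwF (e ▸ one_mem F)⟩
  set Z := closure (Set.range fun n : ℕ => a ^ n * v * (a ^ n)⁻¹) with hZ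
  have hZV1 : Z ≤ V1 := by
    rw [hZ, closure_le]; rintro _ ⟨n, rfl⟩; exact cmem (pow_mem haV1 n) (hWV1 hv)
  have haZ : a ∈ normalizer (Z : Set Y) := mem_normalizer_fintype fun u hu => by
    induction hu using closure_induction with
    | mem u hu =>
      obtain ⟨n, rfl⟩ := hu
      exact subset_closure ⟨n + 1, by simp only [pow_succ']; group⟩
    | one => simpa using one_mem Z
    | mul p q _ _ hp hq =>
      show a * (p * q) * a⁻¹ ∈ Z
      rw [show a * (p * q) * a⁻¹ = a * p * a⁻¹ * (a * q * a⁻¹) by group]; exact mul_mem hp hq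
    | inv p _ hp =>
      show a * p⁻¹ * a⁻¹ ∈ Z
      rw [show a * p⁻¹ * a⁻¹ = (a * p * a⁻¹)⁻¹ by group]; exact inv_mem hp
  have htZ : t ∈ normalizer (Z : Set Y) := mem_normalizer_fintype fun u hu => by
    induction hu using closure_induction with
    | mem u hu =>
      obtain ⟨n, rfl⟩ := hu
      have e : t * (a ^ n * v * (a ^ n)⁻¹) * t⁻¹ = (a ^ n)⁻¹ * v * (a ^ n)⁻¹⁻¹ := by
        have e1 : t * a ^ n * t⁻¹ = (a ^ n)⁻¹ := hinv _ (pow_mem ha n)
        have e2 : t * v * t⁻¹ = v := by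
          rw [(mem_centralizer_zpowers.1 hv.2).eq, mul_inv_cancel_right]
        calc _ = (t * a ^ n * t⁻¹) * (t * v * t⁻¹) * (t * a ^ n * t⁻¹)⁻¹ := by group
          _ = _ := by rw [e1, e2]
      show t * _ * t⁻¹ ∈ Z
      rw [e]
      exact cmem (inv_mem (pow_mem haZ n)) (subset_closure ⟨0, by simp⟩)
    | one => simpa using one_mem Z
    | mul p q _ _ hp hq =>
      show t * (p * q) * t⁻¹ ∈ Z
      rw [show t * (p * q) * t⁻¹ = t * p * t⁻¹ * (t * q * t⁻¹) by group]; exact mul_mem hp hq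
    | inv p _ hp =>
      show t * p⁻¹ * t⁻¹ ∈ Z
      rw [show t * p⁻¹ * t⁻¹ = (t * p * t⁻¹)⁻¹ by group]; exact inv_mem hp
  set Wz := Z ⊓ centralizer ((zpowers t : Subgroup Y) : Set Y) with hWz
  have hWzW : Wz ≤ W := inf_le_inf_right _ (hZV1.trans hV1V)
  -- `|Z| = |Wz|²` and `|V₁| ≤ |W|²`
  have hlow : Nat.card Wz * Nat.card Wz ≤ Nat.card Z := by
    rw [← Nat.card_prod]
    refine Nat.card_le_card_of_injective
      (fun pq : Wz × Wz => (⟨(pq.1 : Y) * δ pq.2, mul_mem pq.1.2.1 (δmem haZ pq.2.2.1)⟩ : Z)) ?_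
    rintro ⟨p, q⟩ ⟨p', q'⟩ he
    simp only [Subtype.mk.injEq] at he
    have hδq : ∀ q : Wz, t * δ q * t⁻¹ = (δ q)⁻¹ := fun q => by
      rw [htu (hWzW q.2).1, (mem_centralizer_zpowers.1 q.2.2).eq, mul_inv_cancel_right]
    have hpf : ∀ p : Wz, t * (p : Y) * t⁻¹ = p := fun p => by
      rw [(mem_centralizer_zpowers.1 p.2.2).eq, mul_inv_cancel_right]
    have he2 : (p : Y) * (δ q)⁻¹ = p' * (δ q')⁻¹ := by
      have := congrArg (fun y => t * y * t⁻¹) he
      rw [show t * ((p : Y) * δ q) * t⁻¹ = (t * p * t⁻¹) * (t * δ q * t⁻¹) by group,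
        show t * ((p' : Y) * δ q') * t⁻¹ = (t * p' * t⁻¹) * (t * δ q' * t⁻¹) by group,
        hpf, hpf, hδq, hδq] at this
      exact this
    have hpV := (hWzW p.2).1
    have hpV' := (hWzW p'.2).1
    have hqV := δmem (h.normalizes a) (hWzW q.2).1
    have hqV' := δmem (h.normalizes a) (hWzW q'.2).1
    letI : CommGroup V := { (inferInstance : Group V) with mul_comm := hVc.is_comm.comm }
    set P : V := ⟨p, hpV⟩; set P' : V := ⟨p', hpV'⟩
    set Q : V := ⟨δ q, hqV⟩; set Q' : V := ⟨δ q', hqV'⟩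
    have a1 : P * Q = P' * Q' := Subtype.ext he
    have a2 : P * Q⁻¹ = P' * Q'⁻¹ := Subtype.ext he2
    have a3 : (P / P') ^ 2 = 1 := by
      have : P * Q * (P * Q⁻¹) = P' * Q' * (P' * Q'⁻¹) := by rw [a1, a2]
      rw [div_pow, div_eq_one, pow_two, pow_two]
      calc P * P = P * Q * (P * Q⁻¹) := by rw [mul_mul_mul_comm, mul_inv_cancel, mul_one]
        _ = _ := by rw [this, mul_mul_mul_comm, mul_inv_cancel, mul_one]
    have hP : P = P' := div_eq_one.1 (Subtype.ext (h3 _ (SetLike.coe_mem _)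
      (by rw [← Subgroup.coe_pow, a3, Subgroup.coe_one])))
    have hQ : Q = Q' := mul_left_cancel (hP ▸ a1)
    have hq : (q : Y) = q' := by
      have e := congrArg Subtype.val hQ
      have h0 : δ ((q : Y) * (q' : Y)⁻¹) = 1 := by
        have hi : δ ((q' : Y)⁻¹) = (δ q')⁻¹ := eq_inv_of_mul_eq_one_left (by
          rw [← δmul (inv_mem (hWzW q'.2).1) (hWzW q'.2).1, inv_mul_cancel]; simp [δ])
        rw [δmul (hWzW q.2).1 (inv_mem (hWzW q'.2).1), hi, show δ q = δ q' from e, mul_inv_cancel]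
      exact mul_inv_eq_one.1 (δone _ (hZV1 (mul_mem q.2.1 (inv_mem q'.2.1))) h0)
    exact Prod.ext (Subtype.ext (congrArg Subtype.val hP :)) (Subtype.ext hq)
  have hup : ∀ Z' : Subgroup Y, Z' ≤ V1 → t ∈ normalizer (Z' : Set Y) → a ∈ normalizer (Z' : Set Y) →
      Nat.card Z' ≤ Nat.card (Z' ⊓ centralizer ((zpowers t : Subgroup Y) : Set Y) : Subgroup Y) *
        Nat.card (Z' ⊓ centralizer ((zpowers t : Subgroup Y) : Set Y) : Subgroup Y) := by
    intro Z' hle ht' ha'
    rw [← Nat.card_prod]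
    refine Nat.card_le_card_of_injective (fun u : Z' =>
      ((⟨_, mul_mem u.2 (cmem ht' u.2), mem_centralizer_zpowers.2
          (hcomm_t (htc (hV1V (hle u.2))))⟩ :
          (Z' ⊓ centralizer ((zpowers t : Subgroup Y) : Set Y) : Subgroup Y)),
        (⟨_, δmem ha' (mul_mem u.2 (inv_mem (cmem ht' u.2))), mem_centralizer_zpowers.2
          (hδfix (mul_mem (hV1V (hle u.2)) (inv_mem (cmem (h.normalizes t) (hV1V (hle u.2)))))
            (hti (hV1V (hle u.2))))⟩ :
          (Z' ⊓ centralizer ((zpowers t : Subgroup Y) : Set Y) : Subgroup Y)))) ?_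
    intro u u' he
    simp only [Prod.mk.injEq, Subtype.mk.injEq] at he
    obtain ⟨e1, e2⟩ := he
    letI : CommGroup V := { (inferInstance : Group V) with mul_comm := hVc.is_comm.comm }
    set U : V := ⟨u, hV1V (hle u.2)⟩; set U' : V := ⟨u', hV1V (hle u'.2)⟩
    let c : V →* V :=
      { toFun := fun y => ⟨t * y * t⁻¹, cmem (h.normalizes t) y.2⟩
        map_one' := Subtype.ext (by simp)
        map_mul' := fun y z => Subtype.ext (by simp [mul_assoc]) }
    have e1' := congrArg Subtype.val e1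
    have e2'' := congrArg Subtype.val e2
    have a1 : U * c U = U' * c U' := Subtype.ext e1'
    have a2 : U * (c U)⁻¹ = U' * (c U')⁻¹ := by
      set D : V := U / c U / (U' / c U')
      have hD : δ (D : Y) = 1 := by
        have hDm : (U / c U : V) = D * (U' / c U') := (div_mul_cancel _ _).symm
        have := δmul D.2 (U' / c U' : V).2
        rw [← Subgroup.coe_mul, ← hDm] at this
        have e2' : δ ((U / c U : V) : Y) = δ ((U' / c U' : V) : Y) := by
          simpa [div_eq_mul_inv, U, U', c] using e2''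
        rw [e2'] at this
        exact mul_eq_right.1 this.symm
      have hDV : (D : Y) ∈ V1 := by
        simp only [D, div_eq_mul_inv, Subgroup.coe_mul, Subgroup.coe_inv]
        exact mul_mem (mul_mem (hle u.2) (inv_mem (cmem htV1 (hle u.2))))
          (inv_mem (mul_mem (hle u'.2) (inv_mem (cmem htV1 (hle u'.2)))))
      have hD1 : D = 1 := Subtype.ext (δone _ hDV hD)
      simpa [D, div_eq_mul_inv] using (div_eq_one.1 hD1)
    have a3 : (U / U') ^ 2 = 1 := by
      rw [div_pow, div_eq_one, pow_two, pow_two]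
      calc U * U = U * c U * (U * (c U)⁻¹) := by rw [mul_mul_mul_comm, mul_inv_cancel, mul_one]
        _ = _ := by rw [a1, a2, mul_mul_mul_comm, mul_inv_cancel, mul_one]
    have hU : U = U' := div_eq_one.1 (Subtype.ext (h3 _ (SetLike.coe_mem _)
      (by rw [← Subgroup.coe_pow, a3, Subgroup.coe_one])))
    exact Subtype.ext (congrArg Subtype.val hU :)
  haveI : Fact (Nat.Prime 3) := ⟨Nat.prime_three⟩
  have hcardZ : Nat.card Z = Nat.card Wz * Nat.card Wz :=
    le_antisymm (hup Z hZV1 htZ haZ) hlow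
  obtain ⟨e, hef, he⟩ := (Nat.dvd_prime_pow Nat.prime_three).1
    ((Subgroup.card_dvd_of_le hWzW).trans h.fix_t)
  have hfe : f ∣ e + e := by
    have hord : orderOf ((3 : ℕ) : ZMod ℓ) = f := by exact_mod_cast h.ord
    refine dvd_exponent h.prime hord (hAp a ha) haZ ?_ (by rw [hcardZ, he, pow_add])
    refine (eq_bot_iff_forall _).2 fun u hu => ?_
    have hm : u ∈ F ⊓ V1 :=
      ⟨(hFa u).2 ⟨hV1V (hZV1 hu.1), mem_centralizer_zpowers.1 hu.2⟩, hZV1 hu.1⟩
    rwa [hdis, mem_bot] at hm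
  have he0 : e ≠ 0 := by
    rintro rfl
    have hm : v ∈ Wz := ⟨subset_closure ⟨0, by simp⟩, hv.2⟩
    rw [(card_eq_one.1 (show Nat.card Wz = 1 by rw [he, pow_zero]) : Wz = ⊥), mem_bot] at hm
    exact hv1 hm
  have hef' : e = f := le_antisymm hef (Nat.le_of_dvd (Nat.pos_of_ne_zero he0)
    ((Nat.coprime_two_right.2 h.odd_f).dvd_of_dvd_mul_left (by rwa [← two_mul] at hfe)))
  have hZeq : Z = V1 := by
    refine eq_of_le_of_card_ge hZV1 ((hup V1 le_rfl htV1 haV1).trans ?_)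
    have hle : Nat.card (V1 ⊓ centralizer ((zpowers t : Subgroup Y) : Set Y) : Subgroup Y) ≤ 3 ^ f :=
      Nat.le_of_dvd (by positivity)
        ((Subgroup.card_dvd_of_le (inf_le_inf_right _ hV1V)).trans h.fix_t)
    rw [hcardZ, he, hef']
    exact Nat.mul_le_mul hle hle
  -- the centralizer of `a` acts on `V₁` as an abelian group
  have hnorm : ∀ y, Commute a y → y ∈ normalizer (A' : Set Y) := fun y hy => by
    rw [hgenA]; exact centralizer_le_normalizer _ (mem_centralizer_zpowers.2 hy)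
  have hab : ∀ y z, Commute a y → Commute a z →
      ∀ u ∈ V1, y * (z * u * z⁻¹) * y⁻¹ = z * (y * u * y⁻¹) * z⁻¹ := by
    intro y z hy hz
    refine conj_comm_of_cyclic (U := V1) (a := a) (u := v) ⟨⟨fun p q => Subtype.ext (vc (hV1V p.2) (hV1V q.2))⟩⟩
      (hWV1 hv) haV1 hZeq.ge (hnV1 y (hnorm y hy)) (hnV1 z (hnorm z hz)) ?_ ?_
    · intro u _
      rw [show y * (a * u * a⁻¹) * y⁻¹ = (y * a) * u * (y * a)⁻¹ by group, ← hy.eq]; group
    · intro u _
      rw [show z * (a * u * a⁻¹) * z⁻¹ = (z * a) * u * (z * a)⁻¹ by group, ← hz.eq]; group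
  -- lift the conjugate of `x`
  have hxA0 : ∀ y ∈ A, Commute (π x) y := by
    rw [← hmap]; rintro _ ⟨y, hy, rfl⟩; exact (hxa y hy).map π
  have hy0O : g * x * g⁻¹ ∈ O := h.oNormal.conj_mem x h.x_mem g
  have hy0a : Commute (π a) (π (g * x * g⁻¹)) := by
    have hb : π g⁻¹ * π a * (π g⁻¹)⁻¹ ∈ A := hAn.conj_mem _ (hmap ▸ ⟨a, ha, rfl⟩) _
    have := (hxA0 _ hb).symm.map (MulAut.conj (π g)).toMonoidHom
    simpa [mul_assoc] using this
  have haord : orderOf a = ℓ := orderOf_eq_prime (hAp a ha) (fun e => haK (e ▸ one_mem K))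
  obtain ⟨c, hac, hcV⟩ := exists_fixed_coset (g := a) (k := g * x * g⁻¹) (h.normalizes a)
    (h.coprime_v (by rw [haord]; exact h.not_three_dvd_ell)) (by
      refine (QuotientGroup.eq_one_iff _).1 ?_
      show π _ = 1
      rw [map_mul, map_mul, map_mul, map_inv, map_inv, hy0a.eq]; group)
  have hcO : c ∈ O := by
    have hm := mul_mem hy0O (h.v_le hcV)
    rwa [mul_inv_cancel_left] at hm
  have hπc : π (g * x * g⁻¹) = π c := QuotientGroup.eq.2 hcV
  rw [hπc]
  set d := x * c * x⁻¹ * c⁻¹ with hd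
  have hdO : d ∈ O := mul_mem (mul_mem (mul_mem h.x_mem hcO) (inv_mem h.x_mem)) (inv_mem hcO)
  have hax : Commute a x := (hxa a ha).symm
  have had : Commute a d := ((hax.mul_right hac).mul_right hax.inv_right).mul_right hac.inv_right
  have hdV1 : ∀ u ∈ V1, Commute d u := by
    intro u hu
    refine mul_inv_eq_iff_eq_mul.1 (show d * u * d⁻¹ = u from ?_)
    set u' := x⁻¹ * (c⁻¹ * u * c) * x
    have hu' : u' ∈ V1 := by
      have := cmem (inv_mem (hnV1 _ (hnorm x hax))) (cmem (inv_mem (hnV1 _ (hnorm c hac))) hu)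
      simpa [u'] using this
    calc d * u * d⁻¹ = x * (c * u' * c⁻¹) * x⁻¹ := by simp only [hd, u']; group
      _ = c * (x * u' * x⁻¹) * c⁻¹ := hab x c hax hac u' hu'
      _ = u := by simp only [u']; group
  have htF : ∀ u ∈ F, t * u * t⁻¹ = u⁻¹ := by
    intro u hu
    have hu' := (hFa u).1 hu
    have hm : u * (t * u * t⁻¹) ∈ F := by
      refine mul_mem hu ?_
      have hm : t * u * t⁻¹ ∈ F.map (MulAut.conj t).toMonoidHom := ⟨u, hu, rfl⟩
      rwa [hF, map_fixed t (h.normalizes t), map_conj_eq htA] at hm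
    have hm' : u * (t * u * t⁻¹) ∈ F ⊓ V1 :=
      ⟨hm, hWV1 ⟨hm.1, mem_centralizer_zpowers.2 (hcomm_t (htc hu'.1))⟩⟩
    rw [hdis, mem_bot] at hm'
    exact (inv_eq_of_mul_eq_one_right hm').symm
  have hdt : d⁻¹ * (t * d * t⁻¹) ∈ V := by
    refine h.ker ⟨O.mul_mem (O.inv_mem hdO) (h.oNormal.conj_mem d hdO t), ?_⟩
    suffices hle : V ≤ centralizer ({d⁻¹ * (t * d * t⁻¹)} : Set Y) by
      exact mem_centralizer_iff.2 fun u hu => mem_centralizer_singleton_iff.1 (hle hu)
    rw [← hsplit]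
    refine sup_le (fun u hu => ?_) fun u hu => ?_
    · refine mem_centralizer_singleton_iff.2 (Eq.symm ?_)
      have hdF : d * u⁻¹ * d⁻¹ ∈ F := by
        have hm : d * u⁻¹ * d⁻¹ ∈ F.map (MulAut.conj d).toMonoidHom := ⟨_, inv_mem hu, rfl⟩
        rwa [hF, map_fixed d (h.normalizes d), map_conj_eq (hnorm d had)] at hm
      have e : (d⁻¹ * (t * d * t⁻¹)) * u * (d⁻¹ * (t * d * t⁻¹))⁻¹ = u := by
        calc _ = d⁻¹ * (t * (d * (t⁻¹ * u * t⁻¹⁻¹) * d⁻¹) * t⁻¹) * d := by group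
          _ = u := by rw [htinv, htinv]; conv_lhs => rw [show t * u * t = t * u * t⁻¹ by rw [htinv]]
                      rw [htF u hu, show t * (d * u⁻¹ * d⁻¹) * t = t * (d * u⁻¹ * d⁻¹) * t⁻¹ by rw [htinv],
                        htF _ hdF]; group
      exact mul_inv_eq_iff_eq_mul.1 e
    · refine mem_centralizer_singleton_iff.2 (Eq.symm ?_)
      have h1 : Commute (t * d * t⁻¹) u := by
        have := (hdV1 _ (cmem (inv_mem htV1) hu)).map (MulAut.conj t).toMonoidHom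
        simpa [mul_assoc] using this
      exact ((hdV1 u hu).inv_left.mul_left h1).eq
  -- no nontrivial power of `x` centralizes `V₁`
  have hxfree : ∀ j : ℤ, (∀ u ∈ V1, Commute (x ^ j) u) → x ^ j = 1 := by
    intro j hj
    by_contra hne
    have hord : orderOf (x ^ j) = ℓ := orderOf_eq_prime (by
      rw [← zpow_natCast, ← zpow_mul, mul_comm, zpow_mul, zpow_natCast, ← h.x_ord, pow_orderOf_eq_one,
        one_zpow]) hne
    have hz : x ∈ zpowers (x ^ j) := (eq_of_le_of_card_ge (zpowers_le.2 (zpow_mem (mem_zpowers x) j))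
      (by rw [Nat.card_zpowers, Nat.card_zpowers, hord, h.x_ord])).ge (mem_zpowers x)
    obtain ⟨i, hi⟩ := mem_zpowers_iff.1 hz
    have hvx : v ∈ fixed V (zpowers x) :=
      ⟨hv.1, mem_centralizer_zpowers.2 (hi ▸ (hj v (hWV1 hv)).zpow_left i)⟩
    rw [h.fix_x, mem_bot] at hvx
    exact hv1 hvx
  have hVV1 : ∀ y ∈ V, ∀ u ∈ V1, Commute y u := fun y hy u hu => vc hy (hV1V hu)
  -- `d` commutes with `x` modulo `V`
  have hdx : Commute (π d) (π x) := by
    obtain ⟨d', htd', hd'V⟩ := exists_fixed_coset (h.normalizes t)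
      (h.coprime_v (by rw [h.orderOf_t]; norm_num)) hdt
    have hd'O : d' ∈ O := by simpa using mul_mem hdO (h.v_le hd'V)
    obtain ⟨j, hj⟩ := h.norm_x d' hd'O htd'
    have hd'1 : ∀ u ∈ V1, Commute d' u := fun u hu => by
      simpa using (hdV1 u hu).mul_left (hVV1 _ hd'V u hu)
    have hj1 : x ^ (1 - j) = 1 := by
      refine hxfree _ fun u hu => mul_inv_eq_iff_eq_mul.1 ?_
      -- `d' x d'⁻¹` and `x` act alike
      have hxu : x * u * x⁻¹ ∈ V1 := cmem hxV1 hu
      have e1 : (d' * x * d'⁻¹) * u * (d' * x * d'⁻¹)⁻¹ = x * u * x⁻¹ := by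
        calc _ = d' * (x * (d'⁻¹ * u * d') * x⁻¹) * d'⁻¹ := by group
          _ = x * u * x⁻¹ := by
            rw [show d'⁻¹ * u * d' = u by rw [mul_assoc, ← (hd'1 u hu).eq, inv_mul_cancel_left],
              (hd'1 _ hxu).eq, mul_inv_cancel_right]
      have hxj : x ^ j ∈ normalizer (V1 : Set Y) := zpow_mem hxV1 j
      set m := d' * x * d'⁻¹ * (x ^ j)⁻¹
      have e2 : (d' * x * d'⁻¹) * u * (d' * x * d'⁻¹)⁻¹ = x ^ j * u * (x ^ j)⁻¹ := by
        calc _ = m * (x ^ j * u * (x ^ j)⁻¹) * m⁻¹ := by simp only [m]; group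
          _ = _ := by rw [(hVV1 m hj _ (cmem hxj hu)).eq, mul_inv_cancel_right]
      calc x ^ (1 - j) * u * (x ^ (1 - j))⁻¹ = (x ^ j)⁻¹ * (x * u * x⁻¹) * x ^ j := by
            rw [zpow_sub, zpow_one]; group
        _ = u := by rw [← e1, e2]; group
    have hπj : π (d' * x * d'⁻¹) = π (x ^ j) := by
      rw [← div_eq_one, ← map_div, div_eq_mul_inv]; exact (QuotientGroup.eq_one_iff _).2 hj
    have hπd : π d = π d' := by simpa [π, QuotientGroup.eq] using hd'V
    have hxj : x ^ j = x := by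
      rw [zpow_sub, zpow_one, mul_inv_eq_one] at hj1; exact hj1.symm
    rw [hπd]
    rw [hxj, map_mul, map_mul, map_inv] at hπj
    exact mul_inv_eq_iff_eq_mul.1 hπj
  have hπd : π x * π c * (π x)⁻¹ = π d * π c := by
    simp only [hd, map_mul, map_inv, mul_assoc, inv_mul_cancel, mul_one]
  have hpow : π (d ^ ℓ) = 1 := by
    have hn : ∀ n : ℕ, π x ^ n * π c * (π x ^ n)⁻¹ = π d ^ n * π c := by
      intro n
      induction n with
      | zero => simp
      | succ n ih =>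
        calc π x ^ (n + 1) * π c * (π x ^ (n + 1))⁻¹
            = π x * (π x ^ n * π c * (π x ^ n)⁻¹) * (π x)⁻¹ := by rw [pow_succ']; group
          _ = π x * π d ^ n * π c * (π x)⁻¹ := by rw [ih]; group
          _ = π d ^ n * (π x * π c * (π x)⁻¹) := by rw [(hdx.pow_left n).symm.eq]; group
          _ = _ := by rw [hπd, pow_succ]; group
    have := hn ℓ
    rw [← map_pow π x, ← h.x_ord, pow_orderOf_eq_one, map_one, one_mul, inv_one, mul_one, h.x_ord] at this
    rw [map_pow]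
    exact mul_eq_right.1 this.symm
  obtain ⟨j, hj⟩ := h.mem_zpowers_quotient hdO ((QuotientGroup.eq_one_iff _).1 hpow) hdt (by
    refine (QuotientGroup.eq_one_iff _).1 ?_
    show π _ = 1
    simp only [map_mul, map_inv]
    rw [← hdx.eq, mul_inv_cancel_right, inv_mul_cancel])
  have hxj : x ^ j = 1 := hxfree j fun u hu => by
    simpa using (hdV1 u hu).mul_left (hVV1 _ hj u hu)
  rw [hxj, mul_one] at hj
  have : π d = 1 := (QuotientGroup.eq_one_iff _).2 (by simpa using inv_mem hj)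
  rw [this, one_mul] at hπd
  exact mul_inv_eq_iff_eq_mul.1 hπd

end ModSetting

end CfsgLib.Walter.FieldThree
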