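import Cfsg.Agent.Walter.FieldThree.OddModule.Conj
import Cfsg.Agent.Coprime.SchurZassenhaus

/-!
# The normal subgroup generated by `x` has order at most `ℓ²` and `φ` acts on it as a scalar
-/

set_option autoImplicit false
set_option linter.style.haveILetI false
set_option linter.unusedSectionVars false

open Subgroup
open scoped Pointwise

namespace CfsgLib.Walter.FieldThree

variable {Y : Type*} [Group Y] [Finite Y] {V O : Subgroup Y} {t x φ : Y} {ℓ f s : ℕ}
  [V.Normal] (h : ModSetting V O t x φ ℓ f s)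
include h

namespace ModSetting

/-- An elementary abelian `ℓ`-subgroup containing `x`, invariant under `t`, `x`, `φ`. -/
theorem exists_xClosure :
    ∃ A : Subgroup Y, Cfsg.IsElementaryAbelian ℓ A ∧ A ≤ O ∧ x ∈ A ∧ A ⊓ V = ⊥ ∧
      t ∈ normalizer (A : Set Y) ∧ φ ∈ normalizer (A : Set Y) ∧
      (A.map (QuotientGroup.mk' V)).Normal := by
  classical
  haveI := h.oNormal
  haveI := Fact.mk h.prime
  set π := QuotientGroup.mk' V with hπ
  set N := normalClosure ({π x} : Set (Y ⧸ V)) with hN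
  have hxl : π x ^ ℓ = 1 := by rw [← map_pow, ← h.x_ord, pow_orderOf_eq_one, map_one]
  have hconj : ∀ a ∈ Group.conjugatesOfSet ({π x} : Set (Y ⧸ V)),
      ∀ b ∈ Group.conjugatesOfSet ({π x} : Set (Y ⧸ V)), a * b = b * a := by
    intro a ha b hb
    rw [Group.mem_conjugatesOfSet_iff] at ha hb
    obtain ⟨_, rfl, ha⟩ := ha
    obtain ⟨_, rfl, hb⟩ := hb
    obtain ⟨c, rfl⟩ := isConj_iff.1 ha
    obtain ⟨d, rfl⟩ := isConj_iff.1 hb
    obtain ⟨g, hg⟩ := QuotientGroup.mk'_surjective V (c⁻¹ * d)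
    have h1 := h.conj_commute g
    rw [← hπ, map_mul, map_mul, map_inv, hg] at h1
    calc c * π x * c⁻¹ * (d * π x * d⁻¹)
        = c * (π x * (c⁻¹ * d * π x * (c⁻¹ * d)⁻¹)) * c⁻¹ := by group
      _ = d * π x * d⁻¹ * (c * π x * c⁻¹) := by rw [h1.eq]; group
  have hNc : IsMulCommutative N := by
    rw [hN]; exact Subgroup.isMulCommutative_closure hconj
  have hNl : ∀ y ∈ N, y ^ ℓ = 1 := by
    intro y hy
    rw [hN] at hy
    refine closure_induction (p := fun y _ => y ^ ℓ = 1) ?_ (one_pow _) ?_ ?_ hy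
    · intro a ha
      rw [Group.mem_conjugatesOfSet_iff] at ha
      obtain ⟨_, rfl, ha⟩ := ha
      obtain ⟨c, rfl⟩ := isConj_iff.1 ha
      rw [conj_pow, hxl, mul_one, mul_inv_cancel]
    · intro a b ha hb e1 e2
      have hc : Commute a b := congrArg Subtype.val
        (hNc.is_comm.comm (⟨a, hN ▸ ha⟩ : N) ⟨b, hN ▸ hb⟩)
      rw [hc.mul_pow, e1, e2, one_mul]
    · intro a _ e1
      rw [inv_pow, e1, inv_one]
  have hNO : N.comap π ≤ O := by
    haveI : (O.map π).Normal := Subgroup.Normal.map h.oNormal π (QuotientGroup.mk'_surjective V)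
    refine (comap_mono (normalClosure_le_normal (Set.singleton_subset_iff.2
      (mem_map_of_mem π h.x_mem)))).trans ?_
    rw [comap_map_eq, QuotientGroup.ker_mk', sup_eq_left.2 h.v_le]
  obtain ⟨A, hAO, hA, hmap, hAV, htA, hxA, hxmem⟩ := h.exists_lift N hNO ⟨hNc, hNl⟩
  have hx : x ∈ A := hxmem (subset_normalClosure rfl)
  refine ⟨A, hA, hAO, hx, hAV, htA, ?_, hmap ▸ normalClosure_normal⟩
  -- the conjugate of `A` under `φ` is a conjugate under `V`, fixing `x`
  set B := A.map (MulAut.conj φ).toMonoidHom with hB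
  have hBmap : B.map π = N := by
    rw [hB, Subgroup.map_map]
    have e : π.comp (MulAut.conj φ).toMonoidHom = (MulAut.conj (π φ)).toMonoidHom.comp π := by
      ext y; simp
    rw [e, ← Subgroup.map_map, hmap]
    exact map_conj_eq ((normalizer_eq_top N).ge (mem_top _))
  have hsup : V ⊔ A = V ⊔ B := by
    have e : ∀ C : Subgroup Y, V ⊔ C = (C.map π).comap π := fun C => by
      rw [comap_map_eq, QuotientGroup.ker_mk', sup_comm]
    rw [e, e, hmap, hBmap]
  have hcop : (Nat.card V).Coprime (Nat.card A) := by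
    obtain ⟨n, hn⟩ := IsPGroup.iff_card.1 (isPGroup_of_elem (r := ℓ) h.prime hA)
    exact (h.coprime_v (by
      rw [hn]; exact fun e => h.not_three_dvd_ell (Nat.prime_three.dvd_of_dvd_pow e))).symm
  haveI := h.vComm
  obtain ⟨n, hn, hnB⟩ := Coprime.exists_conj_eq_of_sup_eq (N := V) (H := A) (K := B)
    le_normalizer_of_normal le_normalizer_of_normal hcop
    (card_map_of_injective (MulAut.conj φ).injective) hsup
    (Or.inl (Group.isSolvable_of_comm fun a b => h.vComm.is_comm.comm a b))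
  have hxs : x ^ s ∈ A := pow_mem hx s
  have hxsB : x ^ s ∈ B := h.phi_x ▸ ⟨x, hx, rfl⟩
  rw [← hnB, Coprime.mem_conj_smul] at hxsB
  have hcom : n⁻¹ * x ^ s * n * (x ^ s)⁻¹ ∈ A ⊓ V := by
    refine ⟨A.mul_mem hxsB (A.inv_mem hxs), ?_⟩
    have e : n⁻¹ * x ^ s * n * (x ^ s)⁻¹ = n⁻¹ * (x ^ s * n * (x ^ s)⁻¹) := by group
    rw [e]
    exact V.mul_mem (V.inv_mem hn) ((inferInstance : V.Normal).conj_mem n hn _)
  rw [hAV, mem_bot, mul_inv_eq_one, mul_assoc, inv_mul_eq_iff_eq_mul] at hcom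
  have hns : Commute (x ^ s) n := hcom
  have hn1 : n = 1 := by
    have hs0 : ¬ ℓ ∣ s := fun e => by
      obtain ⟨k, hk⟩ := h.s_pow
      rw [(ZMod.natCast_eq_zero_iff _ _).2 e, zero_pow (by positivity)] at hk
      exact zero_ne_one hk
    obtain ⟨m, hm⟩ := exists_pow_eq_self_of_coprime (x := x) (n := s)
      (h.x_ord ▸ ((h.prime.coprime_iff_not_dvd).2 hs0).symm)
    have hnx : n ∈ fixed V (zpowers x) := ⟨hn, mem_centralizer_zpowers.2 (hm ▸ hns.pow_left m)⟩
    rwa [h.fix_x, mem_bot] at hnx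
  refine mem_normalizer_iff_map_conj_eq.2 ?_
  show B = A
  rw [← hnB, hn1, map_one, one_smul]

/-- `φ` acts as the scalar `s` on `A`, and `|A| ∣ ℓ²`. -/
theorem scalar_of_xClosure {A : Subgroup Y} (hA : Cfsg.IsElementaryAbelian ℓ A) (hAO : A ≤ O)
    (hx : x ∈ A) (hAV : A ⊓ V = ⊥) (htA : t ∈ normalizer (A : Set Y))
    (hφA : φ ∈ normalizer (A : Set Y)) :
    Nat.card A ≤ ℓ ^ 2 ∧ ∀ a ∈ A, φ * a * φ⁻¹ = a ^ s := by
  haveI := h.oNormal
  haveI := Fact.mk h.prime
  haveI := hA.1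
  have hAn : A ≤ normalizer (V : Set Y) := fun a _ => h.normalizes a
  have hac : ∀ a ∈ A, ∀ b ∈ A, Commute a b := fun a ha b hb =>
    congrArg Subtype.val (hA.1.is_comm.comm ⟨a, ha⟩ ⟨b, hb⟩)
  have htinv : t⁻¹ = t := inv_eq_of_mul_eq_one_left h.t_sq
  have hF : fixed V A = ⊥ := le_bot_iff.1
    ((inf_le_inf_left V (centralizer_le (SetLike.coe_subset_coe.2 (zpowers_le.2 hx)))).trans h.fix_x.le)
  have hfree : ∀ a ∈ A, a ∈ centralizer (V : Set Y) → a = 1 := fun a ha hc =>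
    h.eq_one_of_centralizes (hAO ha) h.not_three_dvd_ell (hA.2 a ha) hc
  have hxi : ∀ {a : Y}, a ∈ A → Commute t a → a ∈ zpowers x := by
    intro a ha hta
    by_cases ha1 : a = 1
    · exact ha1 ▸ one_mem _
    · exact h.uniq a (hAO ha) (orderOf_eq_prime (hA.2 a ha) ha1) hta (hac x hx a ha)
  -- the inverted part
  let Am : Subgroup Y :=
    { carrier := {a | a ∈ A ∧ t * a * t⁻¹ = a⁻¹}
      one_mem' := ⟨one_mem A, by simp⟩
      mul_mem' := fun {a b} ha hb => ⟨mul_mem ha.1 hb.1, by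
        rw [mul_inv_rev, ← (hac _ (inv_mem ha.1) _ (inv_mem hb.1)).eq, ← ha.2, ← hb.2]; group⟩
      inv_mem' := fun {a} ha => ⟨inv_mem ha.1, by
        rw [show t * a⁻¹ * t⁻¹ = (t * a * t⁻¹)⁻¹ by group, ha.2]⟩ }
  have hAmA : Am ≤ A := fun a ha => ha.1
  have hx2 : ∀ a ∈ zpowers x, t * a * t⁻¹ = a⁻¹ → a = 1 := by
    intro a ha e
    obtain ⟨i, rfl⟩ := mem_zpowers_iff.1 ha
    rw [(h.t_x.zpow_right i).eq, mul_inv_cancel_right] at e
    obtain ⟨m, hm⟩ := exists_pow_eq_self_of_coprime (x := x ^ i) (n := 2)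
      (((Nat.coprime_primes Nat.prime_two h.prime).2 h.ell_ne_two.symm).coprime_dvd_right
        (orderOf_dvd_of_pow_eq_one (hA.2 _ (zpow_mem hx i))))
    have e2 : (x ^ i) ^ 2 = 1 := by rw [pow_two]; exact mul_eq_one_iff_eq_inv.2 e
    rw [← hm, e2, one_pow]
  have hdec : zpowers x ⊔ Am = A := by
    refine le_antisymm (sup_le (zpowers_le.2 hx) hAmA) fun a ha => ?_
    have hb := (mem_normalizer_iff.1 htA a).1 ha
    have hc := hac a ha _ hb
    have h1 : a * (t * a * t⁻¹) ∈ zpowers x := by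
      refine hxi (mul_mem ha hb) ?_
      refine mul_inv_eq_iff_eq_mul.1 (show t * (a * (t * a * t⁻¹)) * t⁻¹ = _ from ?_)
      calc t * (a * (t * a * t⁻¹)) * t⁻¹ = t * a * t⁻¹ * ((t * t) * a * (t * t)⁻¹) := by group
        _ = t * a * t⁻¹ * a := by rw [h.t_sq]; group
        _ = _ := hc.eq.symm
    have h2 : a * (t * a * t⁻¹)⁻¹ ∈ Am := ⟨mul_mem ha (inv_mem hb), by
      calc t * (a * (t * a * t⁻¹)⁻¹) * t⁻¹ = t * a * t⁻¹ * ((t * t) * a * (t * t)⁻¹)⁻¹ := by group
        _ = t * a * t⁻¹ * a⁻¹ := by rw [h.t_sq]; group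
        _ = _ := by group⟩
    obtain ⟨m, hm⟩ := exists_pow_eq_self_of_coprime (x := a) (n := 2)
      (((Nat.coprime_primes Nat.prime_two h.prime).2 h.ell_ne_two.symm).coprime_dvd_right
        (orderOf_dvd_of_pow_eq_one (hA.2 a ha)))
    rw [← hm]
    refine pow_mem ?_ m
    have e : a * (t * a * t⁻¹) * (a * (t * a * t⁻¹)⁻¹) = a ^ 2 := by
      rw [hc.eq, mul_assoc, ← mul_assoc a, ← pow_two, ← (hc.symm.pow_right 2).inv_left.eq,
        ← mul_assoc, mul_inv_cancel, one_mul]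
    exact e ▸ mul_mem (mem_sup_left h1) (mem_sup_right h2)
  have hxsupp : ∀ K, Supp ℓ V A K → K ⊓ zpowers x = ⊥ := by
    intro K hK
    refine (eq_bot_iff_forall _).2 fun k hk => ?_
    by_contra hk1
    refine hK.2 (le_of_le_of_eq (le_trans ?_ h.fix_x.le) rfl |>.trans bot_le)
    have hkx : x ∈ zpowers k := by
      have hord : orderOf k = ℓ := orderOf_eq_prime (hA.2 k (hK.1.le hk.1)) hk1
      exact (eq_of_le_of_card_ge (zpowers_le.2 hk.2)
        (by rw [Nat.card_zpowers, Nat.card_zpowers, hord, h.x_ord])).ge (mem_zpowers x)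
    exact inf_le_inf_left V (centralizer_le (SetLike.coe_subset_coe.2
      (zpowers_le.2 (zpowers_le.2 hk.1 hkx))))
  have hmapt : ∀ K : Subgroup Y, (K.map (MulAut.conj t).toMonoidHom).map (MulAut.conj t).toMonoidHom = K := by
    intro K
    rw [Subgroup.map_map, show (MulAut.conj t).toMonoidHom.comp (MulAut.conj t).toMonoidHom = MonoidHom.id Y by
      ext y
      show t * (t * y * t⁻¹) * t⁻¹ = y
      rw [show t * (t * y * t⁻¹) * t⁻¹ = (t * t) * y * (t * t)⁻¹ by group, h.t_sq]; group,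
      Subgroup.map_id]
  have hstable : ∀ K, Supp ℓ V A K → K.map (MulAut.conj t).toMonoidHom = K → K = Am := by
    intro K hK e
    have hKm : K ≤ Am := by
      intro k hk
      refine ⟨hK.1.le hk, ?_⟩
      have hkt : t * k * t⁻¹ ∈ K := e.le ⟨k, hk, rfl⟩
      have hm : k * (t * k * t⁻¹) ∈ K ⊓ zpowers x := by
        refine ⟨mul_mem hk hkt, hxi (mul_mem (hK.1.le hk) (hK.1.le hkt)) ?_⟩
        refine mul_inv_eq_iff_eq_mul.1 (show t * (k * (t * k * t⁻¹)) * t⁻¹ = _ from ?_)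
        calc t * (k * (t * k * t⁻¹)) * t⁻¹ = t * k * t⁻¹ * ((t * t) * k * (t * t)⁻¹) := by group
          _ = t * k * t⁻¹ * k := by rw [h.t_sq]; group
          _ = _ := (hac _ (hK.1.le hkt) k (hK.1.le hk)).eq
      rw [hxsupp K hK, mem_bot] at hm
      exact (inv_eq_of_mul_eq_one_right hm).symm
    refine le_antisymm hKm fun a ha => ?_
    have hxK : x ∉ K := fun hxK => h.x_ne_one ((eq_bot_iff_forall _).1 (hxsupp K hK) x ⟨hxK, mem_zpowers x⟩)
    have hm : a ∈ K ⊔ zpowers x := (hK.1.sup_zpowers h.prime hx hxK).ge ha.1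
    obtain ⟨k, hk, y, hy, rfl⟩ := Coprime.exists_mul_of_mem_sup (N := K) (H := zpowers x)
      (zpowers_le.2 (centralizer_le_normalizer _ (mem_centralizer_iff.2
        fun k hk => (hac k (hK.1.le hk) x hx).eq))) hm
    have hym : y ∈ Am := by
      have := mul_mem (inv_mem (hKm hk)) ha
      rwa [inv_mul_cancel_left] at this
    rw [hx2 y hy hym.2, mul_one]
    exact hk
  have hscalar_x : ∀ a ∈ zpowers x, φ * a * φ⁻¹ = a ^ s := by
    intro a ha
    obtain ⟨i, rfl⟩ := mem_zpowers_iff.1 ha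
    rw [← conj_zpow, h.phi_x, ← zpow_natCast x s, ← zpow_mul, ← zpow_natCast (x ^ i) s, ← zpow_mul, mul_comm]
  by_cases hpair : ∃ K, Supp ℓ V A K ∧ K.map (MulAut.conj t).toMonoidHom ≠ K
  swap
  · push Not at hpair
    have hAm : Am = ⊥ := (eq_bot_iff_forall _).2 fun a ha => hfree a ha.1
      (mem_centralizer_of_supp h.prime hA Nat.prime_three h.ne_three h.vComm h.vPow hAn
        (fun v hv => mem_centralizer_iff.1 hv.2 a ha.1)
        fun K hK v hv => mem_centralizer_iff.1 hv.2 a (hstable K hK (hpair K hK) ▸ ha))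
    rw [hAm, sup_bot_eq] at hdec
    refine ⟨?_, fun a ha => hscalar_x a (hdec.ge ha)⟩
    rw [← hdec, Nat.card_zpowers, h.x_ord, pow_two]
    exact Nat.le_mul_self ℓ
  obtain ⟨K, hK, hKt⟩ := hpair
  set K' := K.map (MulAut.conj t).toMonoidHom with hK'def
  have hK' : Supp ℓ V A K' := hK.map (h.normalizes t) htA
  haveI hVc := h.vComm
  have hxn : ∀ L, L ≤ A → x ∈ normalizer ((fixed V L : Subgroup Y) : Set Y) := fun L hL =>
    h.x_normalizes_fixed (centralizer_le_normalizer _ (mem_centralizer_iff.2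
      fun k hk => (hac k (hL hk) x hx).eq))
  -- a fixed element of `t` from each pair
  have hwit : ∀ L, Supp ℓ V A L → L.map (MulAut.conj t).toMonoidHom ≠ L →
      fixed V (zpowers t) ≤ fixed V L ⊔ fixed V (L.map (MulAut.conj t).toMonoidHom) ∧
      ∃ w ∈ fixed V (zpowers t), avg V L w ≠ 1 := by
    intro L hL hne
    set L' := L.map (MulAut.conj t).toMonoidHom
    have hLV := hL.1.le.trans hAn
    obtain ⟨u, hu, hu1⟩ : ∃ u ∈ fixed V L, u ≠ 1 := by
      by_contra hno
      push Not at hno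
      exact hL.2 fun u hu => by rw [hno u hu]; exact one_mem _
    have hT : t * u * t⁻¹ ∈ fixed V L' := by
      rw [show fixed V L' = (fixed V L).map (MulAut.conj t).toMonoidHom from (map_fixed t (h.normalizes t) L).symm]
      exact ⟨u, hu, rfl⟩
    have hwT : u * (t * u * t⁻¹) ∈ fixed V (zpowers t) := by
      refine ⟨mul_mem hu.1 hT.1, mem_centralizer_zpowers.2 (mul_inv_eq_iff_eq_mul.1
        (show t * (u * (t * u * t⁻¹)) * t⁻¹ = _ from ?_))⟩
      calc t * (u * (t * u * t⁻¹)) * t⁻¹ = t * u * t⁻¹ * ((t * t) * u * (t * t)⁻¹) := by group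
        _ = t * u * t⁻¹ * u := by rw [h.t_sq]; group
        _ = _ := congrArg Subtype.val (hVc.is_comm.comm ⟨_, hT.1⟩ ⟨u, hu.1⟩)
    have havg : avg V L (u * (t * u * t⁻¹)) ≠ 1 := by
      have h2 := avg_mem_fixed hVc hA.1 h.prime hAn hL.1 (hL.1.map htA) hne hT
      rw [hF, mem_bot] at h2
      rw [avg_mul hVc hLV hu.1 hT.1, h2, mul_one, avg_of_fixed hVc hLV hu]
      intro e
      refine hu1 (h.eq_one_of_pow hu.1 ?_ e)
      obtain ⟨n, hn⟩ := IsPGroup.iff_card.1 ((isPGroup_of_elem h.prime hA).to_le hL.1.le)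
      rw [hn]
      exact fun e' => h.not_three_dvd_ell (Nat.prime_three.dvd_of_dvd_pow e')
    refine ⟨?_, _, hwT, havg⟩
    have hne' : fixed V (zpowers t) ⊓ (fixed V L ⊔ fixed V L') ≠ ⊥ := fun e => by
      refine havg ?_
      rw [(eq_bot_iff_forall _).1 e _ ⟨hwT, mul_mem_sup hu hT⟩]
      simpa using avg_of_fixed hVc hLV (one_mem (fixed V L))
    refine ((h.fix_t_eq inf_le_left (inf_normalizer_le_normalizer_inf
      ⟨h.x_normalizes_fixed (centralizer_le_normalizer _ (mem_centralizer_zpowers.2 h.t_x)),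
        normalizer_inf_normalizer_le_normalizer_sup _ _
          ⟨hxn L hL.1.le, hxn L' (hL.map (h.normalizes t) htA).1.le⟩⟩) hne').1.ge).trans inf_le_right
  have honly : ∀ L, Supp ℓ V A L → L = K ∨ L = K' ∨ L = Am := by
    intro L hL
    by_contra hno
    push Not at hno
    obtain ⟨hLK, hLK', hLm⟩ := hno
    have hLt : L.map (MulAut.conj t).toMonoidHom ≠ L := fun e => hLm (hstable L hL e)
    obtain ⟨-, w, hw, hwne⟩ := hwit L hL hLt
    refine hwne ?_
    have hLV := hL.1.le.trans hAn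
    let S : Subgroup Y :=
      { carrier := {v | v ∈ V ∧ avg V L v = 1}
        one_mem' := ⟨one_mem V, by simpa using avg_of_fixed hVc hLV (one_mem (fixed V L))⟩
        mul_mem' := fun {a b} ha hb => ⟨mul_mem ha.1 hb.1,
          by rw [avg_mul hVc hLV ha.1 hb.1, ha.2, hb.2, one_mul]⟩
        inv_mem' := fun {a} ha => ⟨inv_mem ha.1, by
          have e := avg_mul hVc hLV ha.1 (inv_mem ha.1)
          rw [mul_inv_cancel, ha.2, one_mul] at e
          rw [← e]
          simpa using avg_of_fixed hVc hLV (one_mem (fixed V L))⟩ }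
    have hS : ∀ K0, IsHyp ℓ A K0 → K0 ≠ L → fixed V K0 ≤ S := fun K0 hK0 hne v hv =>
      ⟨hv.1, by
        have h2 := avg_mem_fixed hVc hA.1 h.prime hAn hL.1 hK0 hne hv
        rwa [hF, mem_bot] at h2⟩
    exact (sup_le (hS K hK.1 hLK.symm) (hS K' hK'.1 hLK'.symm) ((hwit K hK hKt).1 hw)).2
  have hKm : K ⊓ Am = ⊥ := by
    refine (eq_bot_iff_forall _).2 fun k hk => hfree k (hK.1.le hk.1) ?_
    have hkK' : k ∈ K' := by
      have hm : t * k * t⁻¹ ∈ K' := ⟨k, hk.1, rfl⟩
      rw [hk.2.2] at hm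
      exact inv_mem_iff.1 hm
    refine mem_centralizer_of_supp h.prime hA Nat.prime_three h.ne_three h.vComm h.vPow hAn
      (fun v hv => mem_centralizer_iff.1 hv.2 k (hK.1.le hk.1)) fun L hL v hv => ?_
    refine mem_centralizer_iff.1 hv.2 k ?_
    rcases honly L hL with rfl | rfl | rfl
    · exact hk.1
    · exact hkK'
    · exact hk.2
  have hAA : ∀ {H H' : Subgroup Y}, H ≤ A → H' ≤ A → H ≤ normalizer (H' : Set Y) := fun hH hH' k hk =>
    centralizer_le_normalizer _ (mem_centralizer_iff.2 fun m hm => (hac m (hH' hm) k (hH hk)).eq)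
  have hAml : Nat.card Am ≤ ℓ := by
    have hc := Coprime.card_sup_eq (N := K) (H := Am) (hAA hAmA hK.1.le) hKm
    have hle : Nat.card (K ⊔ Am : Subgroup Y) ≤ ℓ * Nat.card K :=
      (card_le_of_le (sup_le hK.1.le hAmA)).trans
        (Nat.le_of_dvd (Nat.mul_pos h.prime.pos Nat.card_pos) hK.1.dvd)
    rw [hc, mul_comm ℓ] at hle
    exact Nat.le_of_mul_le_mul_left hle Nat.card_pos
  have hA2 : Nat.card A ≤ ℓ ^ 2 := by
    rw [← hdec, Coprime.card_sup_eq (hAA hAmA (zpowers_le.2 hx))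
      ((eq_bot_iff_forall _).2 fun a ha => hx2 a ha.1 ha.2.2), Nat.card_zpowers, h.x_ord, pow_two]
    exact Nat.mul_le_mul_left ℓ hAml
  refine ⟨hA2, ?_⟩
  -- `K` is cyclic and fixed by `φ`
  have hxK : x ∉ K := fun hxK => h.x_ne_one ((eq_bot_iff_forall _).1 (hxsupp K hK) x ⟨hxK, mem_zpowers x⟩)
  have hφKt : ∀ L : Subgroup Y, (L.map (MulAut.conj φ).toMonoidHom).map (MulAut.conj t).toMonoidHom =
      (L.map (MulAut.conj t).toMonoidHom).map (MulAut.conj φ).toMonoidHom := by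
    intro L
    rw [Subgroup.map_map, Subgroup.map_map]
    congr 1
    ext y
    show t * (φ * y * φ⁻¹) * t⁻¹ = φ * (t * y * t⁻¹) * φ⁻¹
    calc _ = (t * φ) * y * (t * φ)⁻¹ := by group
      _ = _ := by rw [h.t_phi.eq]; group
  have hφK : φ ∈ normalizer (K : Set Y) := by
    have h1 : ∀ L : Subgroup Y, Supp ℓ V A L → L.map (MulAut.conj t).toMonoidHom ≠ L →
        L.map (MulAut.conj φ).toMonoidHom = K ∨ L.map (MulAut.conj φ).toMonoidHom = K' := by
      intro L hL hLt
      rcases honly _ (hL.map (h.normalizes φ) hφA) with e | e | e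
      · exact Or.inl e
      · exact Or.inr e
      · exfalso
        refine hLt (Subgroup.map_injective (f := (MulAut.conj φ).toMonoidHom) (MulAut.conj φ).injective ?_)
        rw [← hφKt, e]
        refine map_conj_eq (mem_normalizer_fintype fun a ha => ?_)
        show t * a * t⁻¹ ∈ Am
        rw [ha.2]; exact inv_mem ha
    rcases h1 K hK hKt with e | e
    · exact mem_normalizer_iff_map_conj_eq.2 e
    · have e2 : (K.map (MulAut.conj φ).toMonoidHom).map (MulAut.conj φ).toMonoidHom = K := by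
        rw [e, hK'def, ← hφKt, e, hK'def, hmapt]
      have h2 : φ * φ ∈ normalizer (K : Set Y) := mem_normalizer_iff_map_conj_eq.2 (by
        show K.map (MulAut.conj (φ * φ)).toMonoidHom = K
        conv_rhs => rw [← e2]
        rw [Subgroup.map_map]; congr 1; ext y; simp [mul_assoc])
      have hodd : Odd (orderOf φ) := h.oddO.of_dvd_nat (by
        rw [← Subgroup.orderOf_mk φ h.phi_mem]; exact orderOf_dvd_natCard _)
      obtain ⟨m, hm⟩ := exists_pow_eq_self_of_coprime (x := φ) (n := 2) (Nat.coprime_two_left.2 hodd)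
      rw [← hm, pow_two]
      exact pow_mem h2 m
  have hKx : Nat.card K ≤ ℓ := by
    have hc := Coprime.card_sup_eq (N := K) (H := zpowers x) (hAA (zpowers_le.2 hx) hK.1.le) (hxsupp K hK)
    rw [Nat.card_zpowers, h.x_ord] at hc
    have hle := (card_le_of_le (sup_le hK.1.le (zpowers_le.2 hx))).trans hA2
    rw [hc, pow_two] at hle
    exact Nat.le_of_mul_le_mul_right hle h.prime.pos
  have hscalar_K : ∀ k ∈ K, φ * k * φ⁻¹ = k ^ s := by
    intro k hk
    by_cases hk1 : k = 1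
    · simp [hk1]
    have hord : orderOf k = ℓ := orderOf_eq_prime (hA.2 k (hK.1.le hk)) hk1
    have hKz : zpowers k = K := eq_of_le_of_card_ge (zpowers_le.2 hk) (by rwa [Nat.card_zpowers, hord])
    obtain ⟨i, hi⟩ := mem_zpowers_iff.1 (hKz.ge ((mem_normalizer_iff.1 hφK k).1 hk))
    have hkA := hK.1.le hk
    have hTA := (mem_normalizer_iff.1 htA k).1 hkA
    set p := k * (t * k * t⁻¹) with hp
    have hpx : p ∈ zpowers x := by
      refine hxi (mul_mem hkA hTA) (mul_inv_eq_iff_eq_mul.1 (show t * p * t⁻¹ = p from ?_))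
      calc t * p * t⁻¹ = t * k * t⁻¹ * ((t * t) * k * (t * t)⁻¹) := by rw [hp]; group
        _ = t * k * t⁻¹ * k := by rw [h.t_sq]; group
        _ = p := (hac _ hTA k hkA).eq
    have hp1 : p ≠ 1 := fun e => hk1 ((eq_bot_iff_forall _).1 hKm k
      ⟨hk, hkA, (inv_eq_of_mul_eq_one_right e).symm⟩)
    have e1 : φ * p * φ⁻¹ = p ^ i := by
      calc φ * p * φ⁻¹ = φ * k * φ⁻¹ * ((φ * t) * k * (φ * t)⁻¹) := by rw [hp]; group
        _ = φ * k * φ⁻¹ * (t * (φ * k * φ⁻¹) * t⁻¹) := by rw [← h.t_phi.eq]; group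
        _ = p ^ i := by rw [← hi, hp, (hac k hkA _ hTA).mul_zpow, conj_zpow]
    rw [hscalar_x p hpx, ← zpow_natCast p s, zpow_eq_zpow_iff_modEq,
      orderOf_eq_prime (hA.2 p (mul_mem hkA hTA)) hp1] at e1
    rw [← hi, ← zpow_natCast k s, zpow_eq_zpow_iff_modEq, hord]
    exact e1.symm
  intro a ha
  obtain ⟨k, hk, y, hy, rfl⟩ := Coprime.exists_mul_of_mem_sup (N := K) (H := zpowers x)
    (hAA (zpowers_le.2 hx) hK.1.le) ((hK.1.sup_zpowers h.prime hx hxK).ge ha)
  rw [(hac k (hK.1.le hk) y (zpowers_le.2 hx hy)).mul_pow, ← hscalar_K k hk, ← hscalar_x y hy]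
  group

end ModSetting

end CfsgLib.Walter.FieldThree
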